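import Cfsg.Agent.Lib.Invol.Co1.Three.Plane

/-!
# The centralizer of a rotation inside the centralizer of the involution
-/

set_option autoImplicit false
set_option linter.unusedSectionVars false
set_option maxRecDepth 100000

namespace Cfsg.Agent.Invol.Co1.Three

open Cfsg.Agent.Classical.BinCoc Cfsg.Agent.Invol.Big Cfsg.Agent.Invol.Big.Code

theorem cyc_ok : ((List.range 256).all fun a => !(a != 0 && (a ^^^ wd K8 rot a ^^^ wd K8 rot (wd K8 rot a) == 0)) ||
    a == 34 || a == 70 || a == 100) = true := by decide +kernel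

theorem fixed_ok : ((List.range 256).all fun v =>
    (wd K8 rot v == v) == (!bq K8 34 v && !bq K8 70 v)) = true := by decide +kernel

variable {G : Type*} [Group G] [Finite G] {z : G} {Q : Subgroup G} {cd : G → ℕ}

/-- The stabilizer of the two vectors. -/
def S34 (h : Code K8 z Q cd) : Subgroup G where
  carrier := {c | c * z = z * c ∧ h.act c 34 = 34 ∧ h.act c 70 = 70}
  mul_mem' := fun {a b} ⟨ha, ha1, ha2⟩ ⟨hb, hb1, hb2⟩ =>
    ⟨comm_mul ha hb, by rw [h.act_mul ha hb (by rw [K8_n]; norm_num), hb1, ha1],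
      by rw [h.act_mul ha hb (by rw [K8_n]; norm_num), hb2, ha2]⟩
  one_mem' := ⟨by simp, h.act_one (by rw [K8_n]; norm_num), h.act_one (by rw [K8_n]; norm_num)⟩
  inv_mem' := fun {a} ⟨ha, ha1, ha2⟩ =>
    ⟨comm_inv ha, by conv_lhs => rw [← ha1, h.act_inv_left ha (by rw [K8_n]; norm_num)],
      by conv_lhs => rw [← ha2, h.act_inv_left ha (by rw [K8_n]; norm_num)]⟩

/-- The part of the centralizer of the rotation fixing the two vectors. -/
def SX (h : Code K8 z Q cd) (x : G) : Subgroup G := S34 h ⊓ Subgroup.centralizer ({x} : Set G)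

variable {h : Code K8 z Q cd} {x : G}

theorem mem_SX {c : G} : c ∈ SX h x ↔ (c * z = z * c ∧ h.act c 34 = 34 ∧ h.act c 70 = 70) ∧ c * x = x * c :=
  Subgroup.mem_inf.trans (and_congr Iff.rfl Subgroup.mem_centralizer_singleton_iff)

theorem Q_le_S34 : Q ≤ S34 h := fun q hq => by
  have hz := h.ext.central q hq
  exact ⟨hz, (h.mem_iff hz).1 hq _ (by rw [K8_n]; norm_num), (h.mem_iff hz).1 hq _ (by rw [K8_n]; norm_num)⟩

/-- A member of the stabilizer may be moved by `Q` into the centralizer of the rotation. -/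
theorem exists_comm (R : Rot h x 34 70) {s : G} (hs : s ∈ S34 h) : ∃ q ∈ Q, s * q ∈ SX h x := by
  obtain ⟨hsz, h1, h2⟩ := hs
  set y := s⁻¹ * x * s with hy
  have hyR : Rot h y 34 70 := by
    have := R.conj (comm_inv hsz)
    rw [inv_inv] at this
    have e1 : h.act s⁻¹ 34 = 34 := by
      conv_lhs => rw [← h1, h.act_inv_left hsz (by rw [K8_n]; norm_num)]
    have e2 : h.act s⁻¹ 70 = 70 := by
      conv_lhs => rw [← h2, h.act_inv_left hsz (by rw [K8_n]; norm_num)]
    rwa [e1, e2] at this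
  have hyx : y * x⁻¹ ∈ Q := (h.mem_iff (comm_mul hyR.comm (comm_inv R.comm))).2 fun a ha => by
    have hb := h.act_lt (comm_inv R.comm) a
    rw [h.act_mul hyR.comm (comm_inv R.comm) ha, hyR.act_eq hb, ← R.act_eq hb, h.act_inv_right R.comm ha]
  obtain ⟨d, hd, he⟩ := exists_fixed (D := Q) R.pow hyR.pow (not_three h le_rfl) fun d hd => by
    rw [show y * d * x⁻¹ = (y * x⁻¹) * (x * d * x⁻¹) by group]
    exact mul_mem hyx (h.ext.norm x R.comm d hd)
  refine ⟨d, hd, Subgroup.mem_inf.2 ⟨mul_mem ⟨hsz, h1, h2⟩ (Q_le_S34 hd), Subgroup.mem_centralizer_singleton_iff.2 ?_⟩⟩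
  calc s * d * x = s * (y * d) := by rw [he, mul_assoc]
    _ = _ := by rw [hy]; group

/-- Words fixing the two vectors lift to members commuting with the rotation. -/
theorem exists_word (R : Rot h x 34 70) {k : List ℕ} (hk : Wok K8 k = true) (h1 : wd K8 k 34 = 34)
    (h2 : wd K8 k 70 = 70) : ∃ c ∈ SX h x, h.Acts c (wd K8 k) := by
  obtain ⟨c, hc, hca⟩ := h.exists_lift hk
  obtain ⟨q, hq, hcq⟩ := exists_comm R (s := c)
    ⟨hc, by rw [hca _ (by rw [K8_n]; norm_num), h1], by rw [hca _ (by rw [K8_n]; norm_num), h2]⟩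
  exact ⟨c * q, hcq, (show h.Acts c (wd K8 k) from ⟨hc, hca⟩).mul_Q hq⟩

/-- The centralizer of the rotation is generated by it and the stabilizer. -/
theorem cent (R : Rot h x 34 70) {c : G} (hc : c * z = z * c) (hcx : c * x = x * c) :
    ∃ i : ℕ, ∃ s ∈ SX h x, c = x ^ i * s := by
  have R' := R.conj hc
  rw [show c * x * c⁻¹ = x by rw [hcx, mul_inv_cancel_right]] at R'
  set a := h.act c 34
  set b := h.act c 70
  have ha := R'.lta
  have hcyc := cyc_ok
  simp only [List.all_eq_true, List.mem_range, Bool.or_eq_true, Bool.not_eq_true', Bool.and_eq_false_iff,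
    bne_eq_false_iff_eq, beq_iff_eq, beq_eq_false_iff_ne] at hcyc
  have e1 : wd K8 rot a = b := by rw [← R.act_eq ha, R'.acta]
  have e2 : wd K8 rot b = a ^^^ b := by rw [← R.act_eq R'.ltb, R'.actb]
  have ha0 : a ≠ 0 := fun e => by have := R'.qa; rw [e, show K8.q 0 = false by decide +kernel] at this; simp at this
  have e0 : a ^^^ wd K8 rot a ^^^ wd K8 rot (wd K8 rot a) = 0 := by rw [e1, e2, Nat.xor_self]
  obtain ⟨i, hi⟩ : ∃ i : ℕ, h.act (x ^ i) 34 = a ∧ h.act (x ^ i) 70 = b := by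
    have h34 : (34 : ℕ) < 2 ^ K8.n := by rw [K8_n]; norm_num
    have h70 : (70 : ℕ) < 2 ^ K8.n := by rw [K8_n]; norm_num
    have r : wd K8 rot 100 = 34 ∧ wd K8 rot 70 = 100 ∧ wd K8 rot 34 = 70 := by decide +kernel
    rcases hcyc a ha with (((e | e) | e) | e) | e
    · exact absurd e ha0
    · exact absurd e0 e
    · exact ⟨0, by rw [pow_zero, h.act_one h34, e], by rw [pow_zero, h.act_one h70, ← e1, e, r.2.2]⟩
    · exact ⟨1, by rw [pow_one, R.acta, e], by rw [pow_one, R.actb, ← e1, e, r.2.1]; rfl⟩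
    · refine ⟨2, ?_, ?_⟩
      · rw [pow_two, h.act_mul R.comm R.comm h34, R.acta, R.actb, e]; rfl
      · rw [pow_two, h.act_mul R.comm R.comm h70, R.actb, R.act_eq (by decide), ← e1, e, r.1]; exact r.1
  have hxi : x ^ i * z = z * x ^ i := ((show Commute x z from R.comm).pow_left i).eq
  refine ⟨i, (x ^ i)⁻¹ * c, mem_SX.2 ⟨⟨comm_mul (comm_inv hxi) hc, ?_, ?_⟩, ?_⟩, (mul_inv_cancel_left _ _).symm⟩
  · rw [h.act_mul (comm_inv hxi) hc (by rw [K8_n]; norm_num), show h.act c 34 = a from rfl, ← hi.1,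
      h.act_inv_left hxi (by rw [K8_n]; norm_num)]
  · rw [h.act_mul (comm_inv hxi) hc (by rw [K8_n]; norm_num), show h.act c 70 = b from rfl, ← hi.2,
      h.act_inv_left hxi (by rw [K8_n]; norm_num)]
  · exact ((((Commute.refl x).pow_left i).inv_left).mul_left (show Commute c x from hcx)).eq

theorem mem_QX (R : Rot h x 34 70) {q : G} (hq : q ∈ Q) :
    q * x = x * q ↔ bq K8 34 (cd q) = false ∧ bq K8 70 (cd q) = false := by
  have hf := fixed_ok
  simp only [List.all_eq_true, List.mem_range, beq_iff_eq] at hf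
  have hf' := hf _ (h.lt q hq)
  constructor
  · intro e
    have hfix : wd K8 rot (cd q) = cd q := by
      rw [← R.act_eq (h.lt q hq), h.act_cd R.comm hq, ← e, mul_inv_cancel_right]
    rw [hfix] at hf'
    simpa using hf'
  · rintro ⟨e1, e2⟩
    refine (fix_commute (h := h) R.comm R.pow hq ?_).symm
    rw [R.act_eq (h.lt q hq)]
    rw [e1, e2] at hf'
    simpa using hf'

theorem card_QX (R : Rot h x 34 70) : Nat.card ↥(Q ⊓ Subgroup.centralizer ({x} : Set G) : Subgroup G) = 128 := by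
  have he := emb_ok
  have hp := perp_ok
  simp only [List.all_eq_true, List.mem_range, Bool.and_eq_true, Bool.or_eq_true, decide_eq_true_eq, Bool.not_eq_true',
    beq_iff_eq] at he hp
  let φ : Fin 64 × Fin 2 → ↥(Q ⊓ Subgroup.centralizer ({x} : Set G) : Subgroup G) := fun t =>
    ⟨h.rep (emb t.1) * z ^ (t.2 : ℕ), Subgroup.mem_inf.2 ⟨mul_mem (h.rep_mem _) (pow_mem h.ext.mem _),
      Subgroup.mem_centralizer_singleton_iff.2 ((mem_QX R (mul_mem (h.rep_mem _) (pow_mem h.ext.mem _))).2 (by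
        obtain ⟨⟨⟨⟨hl, a1⟩, a2⟩, -⟩, -⟩ := he t.1 t.1.2
        rw [h.mul _ (h.rep_mem _) _ (pow_mem h.ext.mem _), h.cd_zpow, Nat.xor_zero,
          h.cd_rep (show emb t.1 < 2 ^ K8.n from hl)]
        exact ⟨a1, a2⟩))⟩⟩
  have hφ : Function.Bijective φ := by
    constructor
    · intro a b e
      have e' : h.rep (emb a.1) * z ^ (a.2 : ℕ) = h.rep (emb b.1) * z ^ (b.2 : ℕ) := congrArg Subtype.val e
      have hc := congrArg cd e'
      rw [h.mul _ (h.rep_mem _) _ (pow_mem h.ext.mem _), h.mul _ (h.rep_mem _) _ (pow_mem h.ext.mem _), h.cd_zpow,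
        h.cd_zpow, Nat.xor_zero, Nat.xor_zero, h.cd_rep (show emb a.1 < 2 ^ K8.n from (he a.1 a.1.2).1.1.1.1),
        h.cd_rep (show emb b.1 < 2 ^ K8.n from (he b.1 b.1.2).1.1.1.1)] at hc
      have h1 : (a.1 : ℕ) = b.1 := by rw [← (he a.1 a.1.2).2, hc, (he b.1 b.1.2).2]
      rw [hc] at e'
      exact Prod.ext (Fin.ext h1) (Fin.ext (h.pow_inj (by omega) (by omega) (mul_left_cancel e')))
    · rintro ⟨q, hq⟩
      obtain ⟨hqQ, hqx⟩ := Subgroup.mem_inf.1 hq
      obtain ⟨a1, a2⟩ := (mem_QX R hqQ).1 (Subgroup.mem_centralizer_singleton_iff.1 hqx)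
      obtain ⟨hl, hval⟩ := (hp _ (h.lt q hqQ)).resolve_left (by simp [a1, a2])
      rcases (h.cd_eq_iff (h.rep_mem (cd q)) hqQ).1 (h.cd_rep (h.lt q hqQ)) with e | e
      · exact ⟨(⟨_, hl⟩, 0), Subtype.ext (by simp [φ, hval, ← e])⟩
      · exact ⟨(⟨_, hl⟩, 1), Subtype.ext (by simp [φ, hval, ← e])⟩
  rw [← Nat.card_eq_of_bijective φ hφ, Nat.card_prod, Nat.card_fin, Nat.card_fin]

/-- Counting along an orbit. -/
theorem orbit_card (h : Code K8 z Q cd) {H K : Subgroup G} (hHz : ∀ c ∈ H, c * z = z * c) {p : ℕ} (hp : p < 256)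
    (hK : ∀ c, c ∈ K ↔ c ∈ H ∧ h.act c p = p) {L : List ℕ} (hnd : L.Nodup) (hlt : ∀ a ∈ L, a < 256)
    (hmov : ∀ a ∈ L, ∃ c ∈ H, h.act c a = p) (hin : ∀ c ∈ H, h.act c p ∈ L) :
    Nat.card H = L.length * Nat.card K := by
  classical
  choose! m hm hma using hmov
  let φ : {a // a ∈ L.toFinset} × K → H := fun t =>
    ⟨(m t.1.1)⁻¹ * t.2.1, mul_mem (inv_mem (hm _ (List.mem_toFinset.1 t.1.2))) ((hK _).1 t.2.2).1⟩
  have hφ : Function.Bijective φ := by
    constructor
    · rintro ⟨⟨a, ha⟩, k⟩ ⟨⟨b, hb⟩, l⟩ e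
      have e' : (m a)⁻¹ * k.1 = (m b)⁻¹ * l.1 := congrArg Subtype.val e
      have hval : ∀ {u : ℕ} (hu : u ∈ L) (w : K), h.act ((m u)⁻¹ * w.1) p = u := fun {u} hu w => by
        obtain ⟨hwH, hwp⟩ := (hK _).1 w.2
        rw [h.act_mul (comm_inv (hHz _ (hm u hu))) (hHz _ hwH) hp, hwp, ← hma u hu,
          h.act_inv_left (hHz _ (hm u hu)) (hlt u hu)]
      have hab : a = b := by rw [← hval (List.mem_toFinset.1 ha) k, e', hval (List.mem_toFinset.1 hb) l]
      subst hab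
      exact Prod.ext rfl (Subtype.ext (mul_left_cancel e'))
    · rintro ⟨c, hc⟩
      have ha := hin c hc
      refine ⟨(⟨h.act c p, List.mem_toFinset.2 ha⟩, ⟨m (h.act c p) * c, (hK _).2 ⟨mul_mem (hm _ ha) hc, ?_⟩⟩),
        Subtype.ext (inv_mul_cancel_left _ _)⟩
      rw [h.act_mul (hHz _ (hm _ ha)) (hHz _ hc) hp, hma _ ha]
  rw [← Nat.card_eq_of_bijective φ hφ, Nat.card_prod, Nat.card_eq_fintype_card, Fintype.card_coe,
    List.toFinset_card_of_nodup hnd]

theorem card_S34 (h : Code K8 z Q cd) :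
    Nat.card (Subgroup.centralizer ({z} : Set G)) = 6720 * Nat.card (S34 h) := by
  have hA := toA_ok
  have hAw := toA_wd
  have hB := toB_ok
  have hBw := toB_wd
  simp only [List.all_eq_true, List.mem_range, beq_iff_eq, Bool.and_eq_true, List.contains_eq_mem] at hA hAw hB hBw
  obtain ⟨n1, l1, n2, l2⟩ := tab_nodup
  have hAlt : ∀ a ∈ toA.map Prod.fst, a < 256 := by
    have : ((toA.map Prod.fst).all fun a => decide (a < 256)) = true := by decide +kernel
    simpa [List.all_eq_true] using this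
  have hBlt : ∀ a ∈ toB.map Prod.fst, a < 256 := by
    have : ((toB.map Prod.fst).all fun a => decide (a < 256)) = true := by decide +kernel
    simpa [List.all_eq_true] using this
  let H1 : Subgroup G :=
    { carrier := {c | c * z = z * c ∧ h.act c 34 = 34}
      mul_mem' := fun {a b} ⟨ha, ha1⟩ ⟨hb, hb1⟩ =>
        ⟨comm_mul ha hb, by rw [h.act_mul ha hb (by rw [K8_n]; norm_num), hb1, ha1]⟩
      one_mem' := ⟨by simp, h.act_one (by rw [K8_n]; norm_num)⟩
      inv_mem' := fun {a} ⟨ha, ha1⟩ =>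
        ⟨comm_inv ha, by conv_lhs => rw [← ha1, h.act_inv_left ha (by rw [K8_n]; norm_num)]⟩ }
  have q34 : K8.q 34 = true ∧ K8.q 70 = true ∧ bq K8 34 70 = true := by decide +kernel
  have e1 : Nat.card (Subgroup.centralizer ({z} : Set G)) = 120 * Nat.card H1 := by
    rw [← l1]
    refine orbit_card h (K := H1) (fun c hc => Subgroup.mem_centralizer_singleton_iff.1 hc) (p := 34) (by norm_num)
      (fun c => ⟨fun hc => ⟨Subgroup.mem_centralizer_singleton_iff.2 hc.1, hc.2⟩,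
        fun hc => ⟨Subgroup.mem_centralizer_singleton_iff.1 hc.1, hc.2⟩⟩) n1 hAlt ?_ ?_
    · intro a ha
      obtain ⟨p, hp, rfl⟩ := List.mem_map.1 ha
      obtain ⟨c, hc, hca⟩ := h.exists_lift (hAw p hp).1
      exact ⟨c, Subgroup.mem_centralizer_singleton_iff.2 hc, by rw [hca _ (hAlt _ ha)]; exact (hAw p hp).2⟩
    · intro c hc
      have hcz := Subgroup.mem_centralizer_singleton_iff.1 hc
      have := hA _ (h.act_lt hcz 34)
      rw [h.act_q hcz (by rw [K8_n]; norm_num), q34.1] at this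
      exact of_decide_eq_true this.symm
  have e2 : Nat.card H1 = 56 * Nat.card (S34 h) := by
    rw [← l2]
    refine orbit_card h (K := S34 h) (fun c (hc : c ∈ H1) => hc.1) (p := 70) (by norm_num)
      (fun c => ⟨fun hc => ⟨⟨hc.1, hc.2.1⟩, hc.2.2⟩, fun hc => ⟨hc.1.1, hc.1.2, hc.2⟩⟩) n2 hBlt ?_ ?_
    · intro a ha
      obtain ⟨p, hp, rfl⟩ := List.mem_map.1 ha
      obtain ⟨c, hc, hca⟩ := h.exists_lift (hBw p hp).1.1
      refine ⟨c, ⟨hc, ?_⟩, ?_⟩
      · rw [hca _ (by rw [K8_n]; norm_num)]; exact (hBw p hp).1.2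
      · rw [hca _ (hBlt _ ha)]; exact (hBw p hp).2
    · intro c ⟨hcz, hc34⟩
      have := hB _ (h.act_lt hcz 70)
      rw [h.act_q hcz (by rw [K8_n]; norm_num), q34.2.1] at this
      have e := h.bq_act hcz (show (34 : ℕ) < 2 ^ K8.n by rw [K8_n]; norm_num) (show (70 : ℕ) < 2 ^ K8.n by rw [K8_n]; norm_num)
      rw [hc34, q34.2.2] at e
      rw [e] at this
      exact of_decide_eq_true this.symm
  rw [e1, e2, ← Nat.mul_assoc]

/-- The order of the stabilizer part of the centralizer of the rotation. -/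
theorem card_SX (R : Rot h x 34 70) (hQ : Nat.card Q = 512)
    (hC : Nat.card (Subgroup.centralizer ({z} : Set G)) = 42525 * (2 ^ 12 * Nat.card Q)) :
    Nat.card (SX h x) = 25920 * 128 := by
  have hS : Nat.card (S34 h) = 25920 * 512 := by
    have := card_S34 h
    rw [hC, hQ] at this
    omega
  haveI : (Q.subgroupOf (S34 h)).Normal := ⟨fun n hn u => h.ext.norm u.1 u.2.1 _ hn⟩
  let f : SX h x →* S34 h ⧸ Q.subgroupOf (S34 h) :=
    (QuotientGroup.mk' _).comp (Subgroup.inclusion inf_le_left)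
  have hf : Function.Surjective f := fun u => by
    obtain ⟨s, rfl⟩ := QuotientGroup.mk'_surjective _ u
    obtain ⟨q, hq, hsq⟩ := exists_comm R s.2
    refine ⟨⟨s.1 * q, hsq⟩, (QuotientGroup.eq.2 ?_).symm⟩
    show (s.1)⁻¹ * (s.1 * q) ∈ Q
    rwa [inv_mul_cancel_left]
  have hker : Nat.card f.ker = 128 := by
    rw [← card_QX R]
    refine Nat.card_congr ⟨fun u => ⟨u.1.1, Subgroup.mem_inf.2 ⟨?_, (Subgroup.mem_inf.1 u.1.2).2⟩⟩,
      fun q => ⟨⟨q.1, Subgroup.mem_inf.2 ⟨Q_le_S34 q.2.1, q.2.2⟩⟩, ?_⟩, fun u => rfl, fun q => rfl⟩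
    · exact (QuotientGroup.eq_one_iff (⟨u.1.1, (Subgroup.mem_inf.1 u.1.2).1⟩ : S34 h)).1 (MonoidHom.mem_ker.1 u.2)
    · exact MonoidHom.mem_ker.2 ((QuotientGroup.eq_one_iff _).2 q.2.1)
  have h1 := f.ker.card_mul_index
  rw [Subgroup.index_ker, MonoidHom.range_eq_top.2 hf, Subgroup.card_top, hker] at h1
  have h2 := (Q.subgroupOf (S34 h)).card_mul_index
  rw [Nat.card_congr (Subgroup.subgroupOfEquivOfLe (Q_le_S34 (h := h))).toEquiv, hQ, hS, Subgroup.index_eq_card] at h2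
  rw [← h1]
  omega

end Cfsg.Agent.Invol.Co1.Three
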