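import Cfsg.Agent.Lib.Invol.Co1.Three.Perfect
import Cfsg.Agent.Lib.Invol.Suz.Loc.UFour.Main

/-!
# A second rotation has perfect centralizer in the quotient
-/

set_option autoImplicit false
set_option linter.unusedSectionVars false

namespace Cfsg.Agent.Invol.Co1.Three

open Cfsg.Agent.Classical.BinCoc Cfsg.Agent.Invol.Big Cfsg.Agent.Invol.Big.Code Cfsg.Agent.Invol.Suz.Loc
  Cfsg.Agent.Invol.Suz.Loc.Three

theorem w6_ok : (((List.range 64).map fun v => v ^^^ wd Suz.K6 [16, 32] v).toFinset.card ≤ 4) ∧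
    wd Suz.K6 [16, 32] 16 = 32 := by decide +kernel

variable {G : Type*} [Group G] [Finite G] {z : G} {Q : Subgroup G} {cd : G → ℕ}

theorem perfect_of_setting (S : Suz.Setting z Q cd) {y : G} (hA : S.code.Acts y (wd Suz.K6 [16, 32]))
    (h3 : y ^ 3 = 1) : Group.IsPerfect ↥(Subgroup.centralizer ({y} : Set G)) := by
  classical
  haveI : Fact (Nat.Prime 3) := ⟨Nat.prime_three⟩
  obtain ⟨g, M⟩ := Setting.exists_mdl S
  obtain ⟨a, b, T⟩ := exists_tri S
  obtain ⟨O, H⟩ := T.exists_O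
  have hy1 : y ≠ 1 := fun e => by
    have := hA.2 16 (by decide)
    rw [e, S.code.act_one (by decide), w6_ok.2] at this
    omega
  have hy3 : orderOf y = 3 := orderOf_eq_prime h3 hy1
  have hfew : (imC S.code y).card ≤ 4 := by
    refine le_trans (Finset.card_le_card ?_) w6_ok.1
    intro v hv
    obtain ⟨u, hu, rfl⟩ := Finset.mem_image.1 hv
    rw [Finset.mem_range] at hu
    exact List.mem_toFinset.2 (List.mem_map.2 ⟨u, List.mem_range.2 hu, by rw [hA.2 u hu]⟩)
  obtain ⟨c, -, hcy⟩ := T.conj_small hA.1 hy3 hfew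
  letI : Fintype (GaloisField 3 2) := Fintype.ofFinite _
  have hF : Fintype.card (GaloisField 3 2) = 9 := by
    rw [← Nat.card_eq_fintype_card, GaloisField.card 3 2 (by norm_num)]; norm_num
  haveI := (H.main M (GaloisField 3 2) hF).1.1
  have hcyc : Subgroup.zpowers (c * y * c⁻¹) = Subgroup.zpowers (a 0) := by
    refine Subgroup.eq_of_le_of_card_ge (Subgroup.zpowers_le.2 hcy) ?_
    rw [Nat.card_zpowers, Nat.card_zpowers, T.orderOf_a0, orderOf_conj', hy3]
  have key : ∀ u : G, u ∈ CL (a 0) ↔ u * (c * y * c⁻¹) = c * y * c⁻¹ * u := fun u => by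
    show u ∈ Subgroup.centralizer _ ↔ _
    rw [← hcyc]; exact mem_CL
  let f : ↥(CL (a 0)) →* ↥(Subgroup.centralizer ({y} : Set G)) :=
    MonoidHom.mk' (fun u => ⟨c⁻¹ * u * c, Subgroup.mem_centralizer_singleton_iff.2 (by
      have := (key u).1 u.2
      calc c⁻¹ * (u : G) * c * y = c⁻¹ * ((u : G) * (c * y * c⁻¹)) * c := by group
        _ = c⁻¹ * (c * y * c⁻¹ * u) * c := by rw [this]
        _ = _ := by group)⟩) fun u v => Subtype.ext (by simp only [Subgroup.coe_mul]; group)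
  refine Group.IsPerfect.ofSurjective (f := f) fun v => ⟨⟨c * v * c⁻¹, (key _).2 ?_⟩, Subtype.ext ?_⟩
  · rw [conj_mul, conj_mul, Subgroup.mem_centralizer_singleton_iff.1 v.2]
  · show c⁻¹ * (c * (v : G) * c⁻¹) * c = v
    group

end Cfsg.Agent.Invol.Co1.Three
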