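import Cfsg.Agent.Lib.Invol.Co1.Three.Quot
import Cfsg.Agent.Lib.Fus.SuzUniq.Gens
import Cfsg.Agent.Lib.Grp.Quasisimple
import Cfsg.Prelude.Def_Spor_Suz

/-!
# The centralizer of the rotation is perfect and its quotient is the Suzuki group
-/

set_option autoImplicit false
set_option linter.unusedSectionVars false
set_option maxRecDepth 100000

namespace Cfsg.Agent.Invol.Co1.Three

open Cfsg.Agent.Classical.BinCoc Cfsg.Agent.Invol.Big Cfsg.Agent.Invol.Big.Code
open scoped commutatorElement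

theorem rot2_ok : bt (fun a => wd K8 rot2 (wd K8 rot2 (wd K8 rot2 a))) = bt id ∧ rot2 = [16, 32].map emb ∧
    wd K8 rot2 38 = 68 := by
  decide +kernel

variable {G : Type*} [Group G] [Finite G] {z : G} {Q : Subgroup G} {cd : G → ℕ}
variable {h : Code K8 z Q cd} {x : G}

/-- The second rotation. -/
theorem Rot.exists_second (R : Rot h x 34 70) : ∃ x2, x2 * x = x * x2 ∧ x2 ^ 3 = 1 ∧ h.Acts x2 (wd K8 rot2) := by
  obtain ⟨hid, -, -⟩ := rot2_ok
  have hok := words_ok
  simp only [Bool.and_eq_true] at hok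
  have hk := hok.1.1.2
  obtain ⟨h1, h2, r1, r2, -⟩ := rot_ok
  obtain ⟨c, hc, hca⟩ := exists_word R hk r1 r2
  have hcz := hca.1
  have hcx : Commute c x := (mem_SX.1 hc).2
  have hA3 : ∀ a < 256, h.act (c * c * c) a = a := by
    intro a ha
    have hlt : ∀ b < 256, wd K8 rot2 b < 256 := fun b hb => wok_lt hk hb
    rw [h.act_mul (comm_mul hcz hcz) hcz ha, hca.2 a ha, h.act_mul hcz hcz (hlt a ha), hca.2 _ (hlt a ha),
      hca.2 _ (hlt _ (hlt a ha))]
    exact lin_ext (f := fun a => wd K8 rot2 (wd K8 rot2 (wd K8 rot2 a)))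
      (fun u hu v hv => by
        show wd K8 rot2 (wd K8 rot2 (wd K8 rot2 (u ^^^ v))) = _
        rw [lin_wd h hk u hu v hv, lin_wd h hk _ (hlt u hu) _ (hlt v hv),
          lin_wd h hk _ (hlt _ (hlt u hu)) _ (hlt _ (hlt v hv))]) lin_id hid ha
  have hq : c * c * c ∈ Q := (h.mem_iff (comm_mul (comm_mul hcz hcz) hcz)).2 hA3
  refine ⟨c ^ 4, (hcx.pow_left 4).eq, ?_, ?_⟩
  · have := pow_four h hq
    rw [← pow_three', ← pow_mul] at this
    rw [← pow_mul]; exact this
  · rw [show c ^ 4 = c * (c * c * c) by simp only [pow_succ, pow_zero, one_mul, mul_assoc]]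
    exact hca.mul_Q hq

/-- Commuting pairs of three-elements with conjugate actions are conjugate. -/
theorem conj_pair {u v u' v' : G} {σu σv σu' σv' : ℕ → ℕ} (hu : h.Acts u σu) (hv : h.Acts v σv)
    (hu' : h.Acts u' σu') (hv' : h.Acts v' σv') (u3 : u ^ 3 = 1) (v3 : v ^ 3 = 1) (u3' : u' ^ 3 = 1)
    (v3' : v' ^ 3 = 1) (huv : u * v = v * u) (huv' : u' * v' = v' * u') {k : List ℕ} (hk : Wok K8 k = true)
    (eu : ∀ a < 256, wd K8 k (σu a) = σu' (wd K8 k a)) (ev : ∀ a < 256, wd K8 k (σv a) = σv' (wd K8 k a)) :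
    ∃ n, n * u * n⁻¹ = u' ∧ n * v * n⁻¹ = v' := by
  obtain ⟨c, hc, hca⟩ := h.exists_lift hk
  have hcA : h.Acts c (wd K8 k) := ⟨hc, hca⟩
  have same : ∀ {p q : G} {σ : ℕ → ℕ}, h.Acts p σ → h.Acts q σ → p * q⁻¹ ∈ Q := by
    intro p q σ hp hq
    refine (h.mem_iff (comm_mul hp.1 (comm_inv hq.1))).2 fun a ha => ?_
    have hb := h.act_lt (comm_inv hq.1) a
    rw [h.act_mul hp.1 (comm_inv hq.1) ha, hp.2 _ hb, ← hq.2 _ hb, h.act_inv_right hq.1 ha]
  have hau := hu.conj hcA (τ := σu') (fun a ha _ => eu a ha)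
  obtain ⟨d, hd, hde⟩ := exists_fixed (D := Q) (x := c * u * c⁻¹) (y := u') (by rw [conj_pow, u3]; simp) u3'
    (not_three h le_rfl) fun d hd => by
      rw [show u' * d * (c * u * c⁻¹)⁻¹ = (u' * d * u'⁻¹) * (u' * (c * u * c⁻¹)⁻¹) by group]
      exact mul_mem (h.ext.norm _ hu'.1 _ hd) (same hu' hau)
  set n1 := d * c with hn1
  have e1 : n1 * u * n1⁻¹ = u' := by
    rw [show n1 * u * n1⁻¹ = d * (c * u * c⁻¹) * d⁻¹ by rw [hn1]; group, ← hde, mul_inv_cancel_right]
  have hdz := h.ext.central d hd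
  have hbv : h.Acts (n1 * v * n1⁻¹) σv' := by
    have := hv.conj hcA (τ := σv') (fun a ha _ => ev a ha)
    refine ⟨comm_mul (comm_mul (comm_mul hdz hc) hv.1) (comm_inv (comm_mul hdz hc)), fun a ha => ?_⟩
    have hb := h.act_lt (comm_inv hdz) a
    rw [show n1 * v * n1⁻¹ = d * (c * v * c⁻¹) * d⁻¹ by rw [hn1]; group,
      h.act_mul (comm_mul hdz this.1) (comm_inv hdz) ha, h.act_mul hdz this.1 hb,
      (h.mem_iff hdz).1 hd _ (h.act_lt this.1 _), (h.mem_iff (comm_inv hdz)).1 (inv_mem hd) a ha, this.2 a ha]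
  have hb1 : u' * (n1 * v * n1⁻¹) = n1 * v * n1⁻¹ * u' := by
    rw [← e1, conj_mul, conj_mul, huv]
  obtain ⟨d2, hd2, hde2⟩ := exists_fixed (D := Q ⊓ Subgroup.centralizer ({u'} : Set G)) (x := n1 * v * n1⁻¹) (y := v')
    (by rw [conj_pow, v3]; simp) v3' (not_three h inf_le_left) fun d hd => by
      obtain ⟨hdQ, hdu⟩ := Subgroup.mem_inf.1 hd
      have cd' : Commute d u' := Subgroup.mem_centralizer_singleton_iff.1 hdu
      refine Subgroup.mem_inf.2 ⟨?_, Subgroup.mem_centralizer_singleton_iff.2 ?_⟩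
      · rw [show v' * d * (n1 * v * n1⁻¹)⁻¹ = (v' * d * v'⁻¹) * (v' * (n1 * v * n1⁻¹)⁻¹) by group]
        exact mul_mem (h.ext.norm _ hv'.1 _ hdQ) (same hv' hbv)
      · exact (((show Commute v' u' from huv'.symm).mul_left cd').mul_left (show Commute (n1 * v * n1⁻¹) u' from hb1.symm).inv_left).eq
  obtain ⟨hd2Q, hd2u⟩ := Subgroup.mem_inf.1 hd2
  refine ⟨d2 * n1, ?_, ?_⟩
  · rw [show d2 * n1 * u * (d2 * n1)⁻¹ = d2 * (n1 * u * n1⁻¹) * d2⁻¹ by group, e1,
      Subgroup.mem_centralizer_singleton_iff.1 hd2u, mul_inv_cancel_right]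
  · rw [show d2 * n1 * v * (d2 * n1)⁻¹ = d2 * (n1 * v * n1⁻¹) * d2⁻¹ by group, ← hde2, mul_inv_cancel_right]

theorem Rot.acts (R : Rot h x 34 70) : h.Acts x (wd K8 rot) := ⟨R.comm, fun _ ha => R.act_eq ha⟩

theorem Rot.acts_inv (R : Rot h x 34 70) : h.Acts x⁻¹ (wd K8 rot.reverse) := by
  have hok := words_ok
  simp only [Bool.and_eq_true] at hok
  exact ⟨comm_inv R.comm, fun a ha => h.act_inv_word hok.1.1.1 R.comm (fun b hb => R.act_eq hb) ha⟩

/-- The rotation lies in the commutators of the centralizer of the two rotations. -/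
theorem Rot.mem_derived (R : Rot h x 34 70) {x2 : G} (h2x : x2 * x = x * x2) (h23 : x2 ^ 3 = 1)
    (hA2 : h.Acts x2 (wd K8 rot2))
    (hperf : Group.IsPerfect ↥(Subgroup.centralizer ({mkX x ⟨x2, Subgroup.mem_centralizer_singleton_iff.2 h2x⟩} :
      Set (MX x)))) :
    x ∈ ⁅Subgroup.centralizer ({x} : Set G), Subgroup.centralizer ({x} : Set G)⁆ := by
  set L := Subgroup.centralizer ({x} : Set G)
  set P := Subgroup.centralizer ({x} : Set G) ⊓ Subgroup.centralizer ({x2} : Set G)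
  set D := ⁅P, P⁆
  set y : ↥L := ⟨x2, Subgroup.mem_centralizer_singleton_iff.2 h2x⟩
  set K := (Subgroup.centralizer ({mkX x y} : Set (MX x))).comap (mkX x)
  have hzp : ∀ {v : ↥L}, v ∈ Subgroup.zpowers (xM x) → mkX x v = 1 := fun hv => (QuotientGroup.eq_one_iff _).2 hv
  have hxM : xM x ∈ K := by
    rw [Subgroup.mem_comap, hzp (Subgroup.mem_zpowers _)]; exact one_mem _
  -- every member is a commutator product times a power of the rotation
  have hdec : ∀ p ∈ K, ∃ d ∈ ⁅K, K⁆, ∃ i : ℕ, p = d * xM x ^ i := by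
    intro p hp
    have hmap : (⁅K, K⁆).map (mkX x) = Subgroup.centralizer ({mkX x y} : Set (MX x)) := by
      rw [Subgroup.map_commutator, Subgroup.map_comap_eq_self_of_surjective (mkX_surj x)]
      exact Subgroup.commutator_eq_self
    obtain ⟨d, hd, e⟩ : mkX x p ∈ (⁅K, K⁆).map (mkX x) := by rw [hmap]; exact hp
    have := QuotientGroup.eq.1 e
    rw [← mem_powers_iff_mem_zpowers] at this
    obtain ⟨i, hi⟩ := this
    exact ⟨d, hd, i, by simp only at hi; rw [hi, mul_inv_cancel_left]⟩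
  let φ : ↥K →* ↥(Subgroup.zpowers x) := MonoidHom.mk' (fun p => ⟨(p.1 : G) * x2 * (p.1 : G)⁻¹ * x2⁻¹, by
      have e : mkX x (p.1 * y * p.1⁻¹ * y⁻¹) = 1 := by
        rw [map_mul, map_mul, map_mul, map_inv, map_inv,
          Subgroup.mem_centralizer_singleton_iff.1 (Subgroup.mem_comap.1 p.2)]
        group
      obtain ⟨i, hi⟩ := Subgroup.mem_zpowers_iff.1 ((QuotientGroup.eq_one_iff _).1 e)
      exact Subgroup.mem_zpowers_iff.2 ⟨i, by
        have := congrArg (fun w : ↥L => (w : G)) hi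
        simpa [xM, y] using this⟩⟩) fun p q => Subtype.ext (by
      have hcen : ∀ w : ↥L, ∀ u ∈ Subgroup.zpowers x, Commute (w : G) u := fun w u hu => by
        obtain ⟨i, rfl⟩ := Subgroup.mem_zpowers_iff.1 hu
        exact (show Commute (w : G) x from Subgroup.mem_centralizer_singleton_iff.1 w.2).zpow_right i
      show (p.1 : G) * q.1 * x2 * ((p.1 : G) * q.1)⁻¹ * x2⁻¹ =
        (p.1 : G) * x2 * (p.1 : G)⁻¹ * x2⁻¹ * ((q.1 : G) * x2 * (q.1 : G)⁻¹ * x2⁻¹)
      have hm : (q.1 : G) * x2 * (q.1 : G)⁻¹ * x2⁻¹ ∈ Subgroup.zpowers x := by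
        have e : mkX x (q.1 * y * q.1⁻¹ * y⁻¹) = 1 := by
          rw [map_mul, map_mul, map_mul, map_inv, map_inv,
            Subgroup.mem_centralizer_singleton_iff.1 (Subgroup.mem_comap.1 q.2)]
          group
        obtain ⟨i, hi⟩ := Subgroup.mem_zpowers_iff.1 ((QuotientGroup.eq_one_iff _).1 e)
        exact Subgroup.mem_zpowers_iff.2 ⟨i, by
          have := congrArg (fun w : ↥L => (w : G)) hi
          simpa [xM, y] using this⟩
      set u := (q.1 : G) * x2 * (q.1 : G)⁻¹ * x2⁻¹ with hu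
      have c1 := hcen p.1 u hm
      have c2 := hcen y u hm
      have c3 : Commute ((p.1 : G) * x2 * (p.1 : G)⁻¹ * x2⁻¹) u :=
        ((c1.mul_left c2).mul_left c1.inv_left).mul_left (show Commute x2⁻¹ u from c2.inv_left)
      rw [c3.eq]
      calc (p.1 : G) * q.1 * x2 * ((p.1 : G) * q.1)⁻¹ * x2⁻¹ = ((p.1 : G) * u) * (x2 * (p.1 : G)⁻¹ * x2⁻¹) := by
            rw [hu]; group
        _ = (u * (p.1 : G)) * (x2 * (p.1 : G)⁻¹ * x2⁻¹) := by rw [c1.eq]
        _ = _ := by group)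
  have hker : ⁅K, K⁆.subgroupOf K ≤ φ.ker := by
    have : ⁅(⊤ : Subgroup ↥K), ⊤⁆ ≤ φ.ker := by
      rw [Subgroup.commutator_le]
      intro a _ b _
      rw [MonoidHom.mem_ker, map_commutatorElement, commutatorElement_eq_one_iff_mul_comm]
      obtain ⟨i, hi⟩ := Subgroup.mem_zpowers_iff.1 (φ a).2
      obtain ⟨j, hj⟩ := Subgroup.mem_zpowers_iff.1 (φ b).2
      exact Subtype.ext (by
        show (φ a : G) * (φ b : G) = φ b * φ a
        rw [← hi, ← hj]; exact ((Commute.refl x).zpow_zpow i j).eq)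
    refine le_trans ?_ this
    intro d hd
    rw [← Subgroup.mem_map_iff_mem (f := K.subtype) Subtype.coe_injective, Subgroup.map_commutator,
      ← MonoidHom.range_eq_map, Subgroup.range_subtype]
    exact hd
  have hKP : ∀ p ∈ K, (p : G) ∈ P := by
    intro p hp
    refine Subgroup.mem_inf.2 ⟨p.2, Subgroup.mem_centralizer_singleton_iff.2 ?_⟩
    obtain ⟨d, hd, i, he⟩ := hdec p hp
    have hdK : d ∈ K := Subgroup.commutator_le_self K hd
    have h1 := MonoidHom.mem_ker.1 (hker (show (⟨d, hdK⟩ : ↥K) ∈ ⁅K, K⁆.subgroupOf K from hd))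
    have h2 : φ ⟨xM x ^ i, pow_mem hxM i⟩ = 1 := by
      refine Subtype.ext ?_
      show ((xM x ^ i : ↥L) : G) * x2 * ((xM x ^ i : ↥L) : G)⁻¹ * x2⁻¹ = 1
      rw [show ((xM x ^ i : ↥L) : G) = x ^ i from rfl,
        ((show Commute x x2 from h2x.symm).pow_left i).eq, mul_inv_cancel_right, mul_inv_cancel]
    have e3 : φ ⟨p, hp⟩ = 1 := by
      rw [show (⟨p, hp⟩ : ↥K) = ⟨d, hdK⟩ * ⟨xM x ^ i, pow_mem hxM i⟩ from Subtype.ext he, map_mul, h1, h2, one_mul]
    have e4 : (p : G) * x2 * (p : G)⁻¹ * x2⁻¹ = 1 := congrArg Subtype.val e3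
    rwa [mul_inv_eq_one, mul_inv_eq_iff_eq_mul] at e4
  have hD : ∀ d ∈ ⁅K, K⁆, (d : G) ∈ D := by
    intro d hd
    have := Subgroup.mem_map_of_mem L.subtype hd
    rw [Subgroup.map_commutator] at this
    refine Subgroup.commutator_mono ?_ ?_ this <;>
    · rintro _ ⟨p, hp, rfl⟩; exact hKP p hp
  have hyK : y ∈ K := by
    rw [Subgroup.mem_comap, Subgroup.mem_centralizer_singleton_iff]
  obtain ⟨d, hd, i, he⟩ := hdec y hyK
  have heG : x2 = (d : G) * x ^ i := congrArg (fun w : ↥L => (w : G)) he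
  have hdD : x2 * (x ^ i)⁻¹ ∈ D := by rw [heG, mul_inv_cancel_right]; exact hD d hd
  -- invariance
  have hinv : ∀ {n : G}, (∀ p ∈ P, n * p * n⁻¹ ∈ P) → ∀ d ∈ D, n * d * n⁻¹ ∈ D := by
    intro n hn d hd
    have := Subgroup.mem_map_of_mem (MulAut.conj n).toMonoidHom hd
    rw [Subgroup.map_commutator] at this
    refine Subgroup.commutator_mono ?_ ?_ this <;>
    · rintro _ ⟨p, hp, rfl⟩; exact hn p hp
  have hmove : ∀ {n a b : G}, n * x * n⁻¹ = a → n * x2 * n⁻¹ = b → (∀ p, p * a = a * p → p * b = b * p → p ∈ P) →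
      ∀ p ∈ P, n * p * n⁻¹ ∈ P := by
    intro n a b ha hb hp p hpP
    obtain ⟨p1, p2⟩ := Subgroup.mem_inf.1 hpP
    refine hp _ ?_ ?_
    · rw [← ha, conj_mul, conj_mul, Subgroup.mem_centralizer_singleton_iff.1 p1]
    · rw [← hb, conj_mul, conj_mul, Subgroup.mem_centralizer_singleton_iff.1 p2]
  have hsw := swp_ok
  simp only [List.all_eq_true, List.mem_range, Bool.and_eq_true, beq_iff_eq] at hsw
  have hok := words_ok
  simp only [Bool.and_eq_true] at hok
  obtain ⟨n, n1, n2⟩ := conj_pair R.acts hA2 hA2 R.acts R.pow h23 h23 R.pow h2x.symm h2x hok.1.2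
    (fun a ha => (hsw a ha).1.1.1.1) (fun a ha => (hsw a ha).1.1.1.2)
  have hn := hinv (hmove n1 n2 fun p a b => Subgroup.mem_inf.2
    ⟨Subgroup.mem_centralizer_singleton_iff.2 b, Subgroup.mem_centralizer_singleton_iff.2 a⟩) _ hdD
  have hxi : ∀ (m : G) (k : ℕ), m * (x ^ k)⁻¹ * m⁻¹ = ((m * x * m⁻¹) ^ k)⁻¹ := fun m k => by rw [conj_pow]; group
  rw [show n * (x2 * (x ^ i)⁻¹) * n⁻¹ = (n * x2 * n⁻¹) * (n * (x ^ i)⁻¹ * n⁻¹) by group, hxi, n2, n1] at hn
  have h3inv : (x⁻¹) ^ 3 = 1 := by rw [inv_pow, R.pow, inv_one]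
  obtain ⟨m, m1, m2⟩ := conj_pair R.acts hA2 R.acts_inv hA2 R.pow h23 h3inv h23 h2x.symm
    (show Commute x⁻¹ x2 from (show Commute x x2 from h2x.symm).inv_left).eq hok.2
    (fun a ha => (hsw a ha).1.2) (fun a ha => (hsw a ha).2)
  have hm := hinv (hmove m1 m2 fun p a b => Subgroup.mem_inf.2
    ⟨Subgroup.mem_centralizer_singleton_iff.2 (by simpa using ((show Commute p x⁻¹ from a).inv_right).eq),
      Subgroup.mem_centralizer_singleton_iff.2 b⟩) _ hdD
  rw [show m * (x2 * (x ^ i)⁻¹) * m⁻¹ = (m * x2 * m⁻¹) * (m * (x ^ i)⁻¹ * m⁻¹) by group, hxi, m1, m2,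
    inv_pow, inv_inv] at hm
  have h2i : x ^ (i + i) ∈ D := by
    have := mul_mem (inv_mem hdD) hm
    rwa [show (x2 * (x ^ i)⁻¹)⁻¹ * (x2 * x ^ i) = x ^ i * x ^ i by group, ← pow_add] at this
  have hxD : x ∈ D := by
    have hmod : ∀ k, x ^ k = x ^ (k % 3) := fun k => by
      conv_lhs => rw [← Nat.div_add_mod k 3, pow_add, pow_mul, R.pow, one_pow, one_mul]
    rcases (show i % 3 = 0 ∨ i % 3 = 1 ∨ i % 3 = 2 by omega) with k | k | k
    · have e : x2 ^ i = 1 := by
        rw [← Nat.div_add_mod i 3, k, add_zero, pow_mul, h23, one_pow]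
      rwa [e, inv_one, mul_one] at hn
    · have := mul_mem h2i h2i
      rwa [← pow_add, hmod, show (i + i + (i + i)) % 3 = 1 by omega, pow_one] at this
    · rwa [hmod, show (i + i) % 3 = 1 by omega, pow_one] at h2i
  exact Subgroup.commutator_mono inf_le_left inf_le_left hxD

/-- The centralizer of the rotation is quasisimple over the Suzuki group. -/
theorem Rot.main (R : Rot h x 34 70) {g : G} (P : Pr z Q cd g) (hQ : Nat.card Q = 512)
    (hC : Nat.card (Subgroup.centralizer ({z} : Set G)) = 42525 * (2 ^ 12 * Nat.card Q))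
    (hperf : ∀ y : MX x, R.code6.Acts y (wd Suz.K6 [16, 32]) → y ^ 3 = 1 →
      Group.IsPerfect ↥(Subgroup.centralizer ({y} : Set (MX x)))) :
    Cfsg.IsQuasisimple ↥(Subgroup.centralizer ({x} : Set G)) ∧ Cfsg.Spor.IsoSuz (MX x) := by
  obtain ⟨gg, M⟩ := Suz.Loc.Setting.exists_mdl (R.setting P hQ hC)
  have hiso := Fus.SuzUniq.iso_suz M
  obtain ⟨e⟩ := hiso
  haveI := Spor.Cos.Suz.finite
  haveI := Spor.Cos.Suz.isSimple
  have hcardM : Nat.card (MX x) = 448345497600 := by rw [Nat.card_congr e.toEquiv]; exact Spor.Cos.Suz.card_eq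
  haveI : Nontrivial (MX x) := e.toEquiv.nontrivial
  haveI hsimp : IsSimpleGroup (MX x) := IsSimpleGroup.isSimpleGroup_of_surjective e.symm.toMonoidHom e.symm.surjective
  set L := Subgroup.centralizer ({x} : Set G)
  have hMperf : ⁅(⊤ : Subgroup (MX x)), (⊤ : Subgroup (MX x))⁆ = ⊤ := by
    rcases (Subgroup.commutator_normal (⊤ : Subgroup (MX x)) (⊤ : Subgroup (MX x))).eq_bot_or_eq_top with e' | e'
    · exfalso
      have hc : ∀ a b : MX x, a * b = b * a := fun a b => commutatorElement_eq_one_iff_mul_comm.1 (by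
        rw [← Subgroup.mem_bot, ← e']
        exact Subgroup.commutator_mem_commutator (Subgroup.mem_top a) (Subgroup.mem_top b))
      letI : CommGroup (MX x) := { (inferInstance : Group (MX x)) with mul_comm := hc }
      have := IsSimpleGroup.prime_card (α := MX x)
      rw [hcardM] at this
      exact absurd this (by norm_num)
    · exact e'
  obtain ⟨x2, h2x, h23, hA2⟩ := R.exists_second
  set y : ↥L := ⟨x2, Subgroup.mem_centralizer_singleton_iff.2 h2x⟩ with hy
  have hyA : R.code6.Acts (mkX x y) (wd Suz.K6 [16, 32]) := by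
    have hzb : R.zb = mkX x ⟨z, Subgroup.mem_centralizer_singleton_iff.2 R.comm.symm⟩ := rfl
    refine ⟨?_, fun a ha => ?_⟩
    · rw [hzb, ← map_mul, ← map_mul]; exact congrArg _ (Subtype.ext hA2.1)
    · obtain ⟨u, hu, hua⟩ := R.code6.surj a ha
      obtain ⟨q, hq, rfl⟩ := mem_Qb hu
      subst hua
      have hyz : mkX x y * R.zb = R.zb * mkX x y := by
        rw [hzb, ← map_mul, ← map_mul]; exact congrArg _ (Subtype.ext hA2.1)
      rw [R.code6.act_cd hyz (mk_mem_Qb hq), ← map_inv, ← map_mul, ← map_mul, cdb_mk R hq,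
        cdb_mk R (show ((y * q * y⁻¹ : ↥L) : G) ∈ Q from h.ext.norm _ hA2.1 _ hq)]
      obtain ⟨l1, v1⟩ := code_QX R hq
      obtain ⟨hlt, hwd, -, -⟩ := wd_emb (w := [16, 32]) (by decide) l1
      show prj (cd (x2 * (q : G) * x2⁻¹)) = _
      rw [← h.act_cd hA2.1 hq, hA2.2 _ (h.lt _ hq)]
      conv_lhs => rw [← v1, rot2_ok.2.1, hwd]
      have he := emb_ok
      simp only [List.all_eq_true, List.mem_range, Bool.and_eq_true, beq_iff_eq] at he
      exact (he _ hlt).2
  have hP := hperf _ hyA (by rw [← map_pow, show y ^ 3 = 1 from Subtype.ext h23, map_one])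
  have hxc := R.mem_derived h2x h23 hA2 hP
  have hxM : xM x ∈ commutator ↥L := by
    rw [← Subgroup.mem_map_iff_mem (f := L.subtype) Subtype.coe_injective, Subgroup.map_subtype_commutator]
    exact hxc
  have hzle : Subgroup.zpowers (xM x) ≤ commutator ↥L := Subgroup.zpowers_le.2 hxM
  have hperfL : commutator ↥L = ⊤ := by
    refine eq_top_iff.2 fun u _ => ?_
    have : mkX x u ∈ (commutator ↥L).map (mkX x) := by
      rw [commutator_def, Subgroup.map_commutator, Subgroup.map_top_of_surjective _ (mkX_surj x), hMperf]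
      exact Subgroup.mem_top _
    obtain ⟨d, hd, e'⟩ := this
    have := hzle (QuotientGroup.eq.1 e')
    simpa using mul_mem hd this
  have hxne : x ≠ 1 := fun e' => by
    have := R.acta
    subst e'
    rw [h.act_one (by rw [K8_n]; norm_num)] at this
    exact absurd this (by decide)
  haveI : Nontrivial ↥L := ⟨⟨xM x, 1, fun e' => hxne (congrArg Subtype.val e')⟩⟩
  refine ⟨Grp.isQuasisimple_of ⟨hperfL⟩ fun N hN => ?_, ⟨e⟩⟩
  rcases IsSimpleGroup.eq_bot_or_eq_top_of_normal _ (Subgroup.Normal.map hN (mkX x) (mkX_surj x)) with e' | e'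
  · refine Or.inr fun u hu => Subgroup.mem_center_iff.2 fun w => ?_
    have : mkX x u = 1 := by rw [← Subgroup.mem_bot, ← e']; exact ⟨u, hu, rfl⟩
    obtain ⟨k, rfl⟩ := Subgroup.mem_zpowers_iff.1 ((QuotientGroup.eq_one_iff _).1 this)
    exact ((show Commute w (xM x) from Subtype.ext (Subgroup.mem_centralizer_singleton_iff.1 w.2)).zpow_right k).eq
  · refine Or.inl (eq_top_iff.2 ?_)
    rw [← hperfL, commutator_def, Subgroup.commutator_le]
    intro a _ b _
    obtain ⟨a', ha', ea⟩ : mkX x a ∈ N.map (mkX x) := e' ▸ Subgroup.mem_top _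
    obtain ⟨i, hi⟩ := Subgroup.mem_zpowers_iff.1 (QuotientGroup.eq.1 ea)
    have hc : ∀ w : ↥L, Commute (xM x ^ i) w := fun w =>
      ((show Commute w (xM x) from Subtype.ext (Subgroup.mem_centralizer_singleton_iff.1 w.2)).zpow_right i).symm
    have : a = a' * xM x ^ i := by rw [hi, mul_inv_cancel_left]
    subst this
    have e2 : ⁅a' * xM x ^ i, b⁆ = ⁅a', b⁆ := by
      rw [commutatorElement_def, commutatorElement_def, mul_assoc a', (hc b).eq]; group
    rw [e2, commutatorElement_def, mul_assoc a' b, mul_assoc a']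
    exact mul_mem ha' (hN.conj_mem _ (inv_mem ha') b)

end Cfsg.Agent.Invol.Co1.Three
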