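import Cfsg.Agent.Lib.Invol.Co1.Three.Tables

/-!
# A three-element of the centralizer rotating a plane
-/

set_option autoImplicit false
set_option linter.unusedSectionVars false
set_option maxRecDepth 100000

namespace Cfsg.Agent.Invol.Co1.Three

open Cfsg.Agent.Classical.BinCoc Cfsg.Agent.Invol.Big Cfsg.Agent.Invol.Big.Code

variable {G : Type*} [Group G] [Finite G] {z : G} {Q : Subgroup G} {cd : G → ℕ}

/-- A twisted translation of order three of a group of order prime to three fixes something. -/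
theorem exists_fixed {x y : G} (hx : x ^ 3 = 1) (hy : y ^ 3 = 1) {D : Subgroup G} (hD : ¬ 3 ∣ Nat.card D)
    (hinv : ∀ d ∈ D, y * d * x⁻¹ ∈ D) : ∃ d ∈ D, y * d = d * x := by
  classical
  haveI : Fact (Nat.Prime 3) := ⟨Nat.prime_three⟩
  haveI := Fintype.ofFinite D
  let f : D → D := fun d => ⟨_, hinv d d.2⟩
  have hf : Function.Injective f := fun a c e => Subtype.ext (by simpa [f] using congrArg Subtype.val e)
  set σ : Equiv.Perm D := Equiv.ofBijective f (Finite.injective_iff_bijective.1 hf) with hσ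
  have hpow : ∀ (n : ℕ) (d : D), (((σ ^ n) d : D) : G) = y ^ n * d * (x ^ n)⁻¹ := by
    intro n
    induction n with
    | zero => intro d; simp
    | succ n ih =>
      intro d
      rw [pow_succ', Equiv.Perm.mul_apply, hσ, Equiv.ofBijective_apply]
      show y * (((σ ^ n) d : D) : G) * x⁻¹ = _
      rw [ih, pow_succ' y, pow_succ' x]
      group
  obtain ⟨d, hd⟩ := Equiv.Perm.exists_fixed_point_of_prime (p := 3) (n := 1)
    (by rwa [← Nat.card_eq_fintype_card]) (σ := σ) (Equiv.ext fun d => Subtype.ext (by rw [pow_one, hpow, hy, hx]; simp))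
  refine ⟨d, d.2, ?_⟩
  have e := congrArg Subtype.val hd
  rw [hσ, Equiv.ofBijective_apply] at e
  exact mul_inv_eq_iff_eq_mul.1 (e : y * (d : G) * x⁻¹ = (d : G))

theorem not_three {D : Subgroup G} (h : Code K8 z Q cd) (hD : D ≤ Q) : ¬ 3 ∣ Nat.card D := by
  intro h3
  obtain ⟨n, hn⟩ := IsPGroup.iff_card.1 (h.two.to_le hD)
  rw [hn] at h3
  exact absurd ((Nat.prime_dvd_prime_iff_eq Nat.prime_three Nat.prime_two).1 (Nat.prime_three.dvd_of_dvd_pow h3)) (by norm_num)

theorem pow_four (h : Code K8 z Q cd) {q : G} (hq : q ∈ Q) : q ^ 4 = 1 := by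
  rw [show (4 : ℕ) = 2 * 2 from rfl, pow_mul, pow_two, pow_two]
  rcases h.ext.sq q hq with e | e <;> rw [e]
  · rw [one_mul]
  · exact h.ext.zz

theorem not_Q_three (h : Code K8 z Q cd) {x : G} (hx : x ∈ Q) (h3 : x ^ 3 = 1) : x = 1 := by
  have h4 := pow_four h hx
  rwa [pow_succ, h3, one_mul] at h4

/-- A three-element commutes with what its action fixes. -/
theorem fix_commute {h : Code K8 z Q cd} {b : G} (hb : b * z = z * b) (h3 : b ^ 3 = 1) {x : G} (hx : x ∈ Q)
    (e : h.act b (cd x) = cd x) : b * x = x * b := by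
  rw [h.act_cd hb hx] at e
  rcases (h.cd_eq_iff hx (h.ext.norm b hb x hx)).1 e.symm with k | k
  · exact mul_inv_eq_iff_eq_mul.1 k
  exfalso
  have hkey : ∀ n : ℕ, b ^ n * x * (b ^ n)⁻¹ = x * z ^ n := by
    intro n
    induction n with
    | zero => simp
    | succ n ih =>
      have hbz : b * z ^ n * b⁻¹ = z ^ n := conj_zpow' hb n
      rw [pow_succ' b, show b * b ^ n * x * (b * b ^ n)⁻¹ = b * (b ^ n * x * (b ^ n)⁻¹) * b⁻¹ by group, ih,
        show b * (x * z ^ n) * b⁻¹ = (b * x * b⁻¹) * (b * z ^ n * b⁻¹) by group, hbz, k, mul_assoc, ← pow_succ']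
  have := hkey 3
  rw [h3, one_mul, inv_one, mul_one, left_eq_mul, pow_succ, pow_two, h.ext.zz, one_mul] at this
  exact h.ne this

/-- A three-element rotating the plane of two vectors and fixing the vectors perpendicular to it. -/
structure Rot (h : Code K8 z Q cd) (x : G) (a b : ℕ) : Prop where
  comm : x * z = z * x
  pow : x ^ 3 = 1
  lta : a < 256
  ltb : b < 256
  qa : K8.q a = true
  qb : K8.q b = true
  hab : bq K8 a b = true
  acta : h.act x a = b
  actb : h.act x b = a ^^^ b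
  fix : ∀ v < 256, bq K8 a v = false → bq K8 b v = false → h.act x v = v

variable {h : Code K8 z Q cd}

theorem Rot.conj {x : G} {a b : ℕ} (R : Rot h x a b) {c : G} (hc : c * z = z * c) :
    Rot h (c * x * c⁻¹) (h.act c a) (h.act c b) := by
  have hxc := comm_mul hc R.comm
  have hci := comm_inv hc
  have key : ∀ v < 256, h.act (c * x * c⁻¹) (h.act c v) = h.act c (h.act x v) := fun v hv => by
    rw [← h.act_mul (comm_mul hxc hci) hc hv, inv_mul_cancel_right, h.act_mul hc R.comm hv]
  refine ⟨comm_mul hxc hci, by rw [conj_pow, R.pow]; simp, h.act_lt hc a, h.act_lt hc b,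
    by rw [h.act_q hc R.lta, R.qa], by rw [h.act_q hc R.ltb, R.qb], by rw [h.bq_act hc R.lta R.ltb, R.hab],
    by rw [key a R.lta, R.acta], by rw [key b R.ltb, R.actb, h.act_xor hc R.lta R.ltb], fun v hv e1 e2 => ?_⟩
  have hv' := h.act_lt hci v
  have ev := h.act_inv_right hc hv
  rw [← ev, key _ hv', R.fix _ hv' (by rw [← h.bq_act hc R.lta hv', ev, e1]) (by rw [← h.bq_act hc R.ltb hv', ev, e2])]

/-- The action on `Q` of a three-element with a small non-abelian commutator. -/
theorem rot_of_few (h : Code K8 z Q cd) {x : G} (hx : x * z = z * x) (h3 : x ^ 3 = 1) {K : Subgroup G}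
    (hKQ : K ≤ Q) (hK : Nat.card K = 8) (hna : ¬ IsMulCommutative K) (hcom : ∀ u ∈ Q, u * (x * u⁻¹ * x⁻¹) ∈ K)
    (hnorm : ∀ u ∈ K, x * u * x⁻¹ ∈ K) (hne : x ≠ 1) : ∃ a b, Rot h x a b := by
  classical
  obtain ⟨u, hu, v, hv, huv⟩ : ∃ u ∈ K, ∃ v ∈ K, u * v ≠ v * u := by
    by_contra hcon
    push Not at hcon
    exact hna ⟨⟨fun u v => Subtype.ext (hcon u u.2 v v.2)⟩⟩
  set a0 := cd u
  set b0 := cd v
  have ha0 : a0 < 256 := h.lt u (hKQ hu)
  have hb0 : b0 < 256 := h.lt v (hKQ hv)
  have hb : bq K8 a0 b0 = true := by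
    by_contra e
    exact huv ((h.commute_iff (hKQ hu) (hKQ hv)).2 (by simpa using e))
  haveI : Fintype K := Fintype.ofFinite K
  set S : Finset ℕ := Finset.univ.image fun w : K => cd (w : G) with hS
  have hzK : z ∈ K := by
    rcases h.ext.comm u (hKQ hu) v (hKQ hv) with e | e
    · exact absurd (commutatorElement_eq_one_iff_mul_comm.1 e) huv
    · rw [← e, commutatorElement_def]
      exact mul_mem (mul_mem (mul_mem hu hv) (inv_mem hu)) (inv_mem hv)
  have hcard : S.card ≤ 4 := by
    let g : ↥K → ↥K := fun w => w * ⟨z, hzK⟩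
    have hf : ∀ w : K, cd ((g w : K) : G) = cd (w : G) := fun w => by
      show cd ((w : G) * z) = _
      rw [h.mul _ (hKQ w.2) _ h.ext.mem, h.cd_z, Nat.xor_zero]
    have hgne : ∀ w : K, g w ≠ w := fun w e => h.ne (mul_left_cancel (a := (w : G))
      (by rw [mul_one]; exact congrArg Subtype.val e))
    have : ∀ s ∈ S, 2 ≤ (Finset.univ.filter fun w : K => cd (w : G) = s).card := by
      intro s hs
      obtain ⟨w, -, rfl⟩ := Finset.mem_image.1 hs
      refine Finset.one_lt_card.2 ⟨w, by simp, g w, by simp [hf], (hgne w).symm⟩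
    have h8 := Finset.card_eq_sum_card_image (fun w : K => cd (w : G)) Finset.univ
    rw [← hS, Finset.card_univ, ← Nat.card_eq_fintype_card, hK] at h8
    have := (Finset.card_nsmul_le_sum S _ 2 this).trans h8.ge
    rw [smul_eq_mul] at this
    omega
  have hmem : ∀ w ∈ K, cd w ∈ S := fun w hw => Finset.mem_image.2 ⟨⟨w, hw⟩, Finset.mem_univ _, rfl⟩
  have hq0 : K8.q 0 = false := by decide +kernel
  have hbq0 : ∀ c, bq K8 0 c = false := fun c => by
    unfold bq; rw [Nat.zero_xor, hq0]; cases K8.q c <;> rfl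
  have hself : ∀ c, bq K8 c c = false := fun c => by
    unfold bq; rw [Nat.xor_self, hq0]; cases K8.q c <;> rfl
  have h4 : ∀ s ∈ S, s = 0 ∨ s = a0 ∨ s = b0 ∨ s = a0 ^^^ b0 := by
    have hne : a0 ≠ 0 ∧ b0 ≠ 0 ∧ a0 ≠ b0 := by
      refine ⟨fun e => ?_, fun e => ?_, fun e => ?_⟩
      · rw [e, hbq0] at hb; simp at hb
      · rw [e, bq_comm, hbq0] at hb; simp at hb
      · rw [e, hself] at hb; simp at hb
    have hsub : ({0, a0, b0, a0 ^^^ b0} : Finset ℕ) ⊆ S := by
      intro s hs
      simp only [Finset.mem_insert, Finset.mem_singleton] at hs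
      rcases hs with rfl | rfl | rfl | rfl
      · simpa [h.cd_one] using hmem 1 (one_mem K)
      · exact hmem u hu
      · exact hmem v hv
      · simpa [h.mul u (hKQ hu) v (hKQ hv)] using hmem (u * v) (mul_mem hu hv)
    have h44 : ({0, a0, b0, a0 ^^^ b0} : Finset ℕ).card = 4 := by
      obtain ⟨h1, h2, h3⟩ := hne
      have e1 : a0 ≠ a0 ^^^ b0 := fun e => h2 (by
        have := congrArg (a0 ^^^ ·) e; simpa [← Nat.xor_assoc] using this.symm)
      have e2 : b0 ≠ a0 ^^^ b0 := fun e => h1 (by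
        have := congrArg (· ^^^ b0) e; simpa [Nat.xor_assoc] using this.symm)
      have e3 : (0 : ℕ) ≠ a0 ^^^ b0 := fun e => h3 (Nat.xor_eq_zero_iff.1 e.symm)
      simp [Finset.card_insert_of_notMem, h1.symm, h2.symm, h3, e1, e2, e3]
    have := Finset.eq_of_subset_of_card_le hsub (by omega)
    intro s hs
    rw [← this] at hs
    simpa using hs
  set T := h.act x with hT
  have hTlt : ∀ c, T c < 256 := fun c => h.act_lt hx c
  have hdiff : ∀ c < 256, c ^^^ T c ∈ S := by
    intro c hc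
    have hr := h.rep_mem c
    have h1 : x * (h.rep c)⁻¹ * x⁻¹ ∈ Q := h.ext.norm x hx _ (inv_mem hr)
    have := hmem _ (hcom _ hr)
    rwa [h.mul _ hr _ h1, ← h.act_cd hx (inv_mem hr), h.cd_inv hr, h.cd_rep (show c < 2 ^ K8.n from hc)] at this
  have hpres : ∀ s ∈ S, T s ∈ S := by
    intro s hs
    obtain ⟨⟨w, hw⟩, -, rfl⟩ := Finset.mem_image.1 hs
    show h.act x (cd w) ∈ S
    rw [h.act_cd hx (hKQ hw)]
    exact hmem _ (hnorm w hw)
  have hT3 : ∀ c < 256, T (T (T c)) = c := by
    intro c hc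
    show h.act x (h.act x (h.act x c)) = c
    rw [← h.act_mul hx hx (hTlt c), ← h.act_mul (comm_mul hx hx) hx hc,
      show x * x * x = 1 by rw [← pow_two, ← pow_succ, h3], h.act_one hc]
  have hxor : ∀ c d, c < 256 → d < 256 → T (c ^^^ d) = T c ^^^ T d := fun c d hc hd => h.act_xor hx hc hd
  have hT0 : T 0 = 0 := by simpa using hxor 0 0 (by norm_num) (by norm_num)
  have hSlt : ∀ s ∈ S, s < 256 := by
    intro s hs
    rcases h4 s hs with rfl | rfl | rfl | rfl
    exacts [by norm_num, ha0, hb0, xor_lt ha0 hb0]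
  have hmv : T a0 ≠ a0 ∨ T b0 ≠ b0 := by
    by_contra hcon
    push Not at hcon
    have hall : ∀ c < 256, T c = c := by
      intro c hc
      obtain ⟨d, hd, e⟩ : ∃ d, T d = d ∧ c ^^^ T c = d := by
        refine ⟨_, ?_, rfl⟩
        rcases h4 _ (hdiff c hc) with e | e | e | e <;> rw [e]
        exacts [hT0, hcon.1, hcon.2, by rw [hxor _ _ ha0 hb0, hcon.1, hcon.2]]
      have e1 : T c = c ^^^ d := by rw [← e, ← Nat.xor_assoc, Nat.xor_self, Nat.zero_xor]
      have hdlt : d < 256 := e ▸ xor_lt hc (hTlt c)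
      have := hT3 c hc
      rw [e1, hxor _ _ hc hdlt, hd, e1, Nat.xor_assoc c, Nat.xor_self, Nat.xor_zero, e1] at this
      rw [e1]; exact this
    exact hne (not_Q_three h ((h.mem_iff hx).2 hall) h3)
  obtain ⟨a, haS, ha⟩ : ∃ a ∈ S, T a ≠ a := by
    rcases hmv with e | e
    · exact ⟨a0, hmem u hu, e⟩
    · exact ⟨b0, hmem v hv, e⟩
  have hal := hSlt a haS
  have hTaS := hpres a haS
  have hTTS := hpres _ hTaS
  have hinj : ∀ c d, c < 256 → d < 256 → T c = T d → c = d := fun c d hc hd e => by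
    rw [← hT3 c hc, e, hT3 d hd]
  have ha0' : a ≠ 0 := fun e => ha (by rw [e, hT0])
  have hTa0 : T a ≠ 0 := fun e => ha0' (hinj a 0 hal (by norm_num) (e.trans hT0.symm))
  have hTT0 : T (T a) ≠ 0 := fun e => hTa0 (hinj _ 0 (hTlt a) (by norm_num) (e.trans hT0.symm))
  have hTT1 : T (T a) ≠ T a := fun e => ha (hinj _ _ (hTlt a) hal e)
  have hTT2 : T (T a) ≠ a := fun e => ha (by rw [← congrArg T e, hT3 a hal])
  have hbb : ∀ c ∈ S, ∀ d ∈ S, c ≠ 0 → d ≠ 0 → c ≠ d → bq K8 c d = true := by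
    intro c hc d hd hc0 hd0 hcd
    have hx1 : bq K8 a0 (a0 ^^^ b0) = true := by rw [bq_addr h ha0 hb0 ha0, hself, hb]; rfl
    have hx2 : bq K8 b0 (a0 ^^^ b0) = true := by
      rw [bq_addr h ha0 hb0 hb0, hself, bq_comm, hb]; rfl
    have hb' : bq K8 b0 a0 = true := by rw [bq_comm]; exact hb
    have hx1' : bq K8 (a0 ^^^ b0) a0 = true := by rw [bq_comm]; exact hx1
    have hx2' : bq K8 (a0 ^^^ b0) b0 = true := by rw [bq_comm]; exact hx2
    rcases h4 c hc with rfl | rfl | rfl | rfl <;> rcases h4 d hd with rfl | rfl | rfl | rfl <;>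
      first | exact absurd rfl hc0 | exact absurd rfl hd0 | exact absurd rfl hcd | assumption
  have hab := hbb a haS _ hTaS ha0' hTa0 (Ne.symm ha)
  have hthree : ∀ s ∈ S, s = 0 ∨ s = a ∨ s = T a ∨ s = T (T a) := by
    intro s hs
    by_contra hcon
    push Not at hcon
    obtain ⟨c1, c2, c3, c4⟩ := hcon
    have : ({0, s, a, T a, T (T a)} : Finset ℕ) ⊆ S := by
      intro d hd
      simp only [Finset.mem_insert, Finset.mem_singleton] at hd
      rcases hd with rfl | rfl | rfl | rfl | rfl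
      exacts [by simpa [h.cd_one] using hmem 1 (one_mem K), hs, haS, hTaS, hTTS]
    have := Finset.card_le_card this
    simp [Finset.card_insert_of_notMem, c1.symm, c2, c3, c4, ha0'.symm, hTa0.symm, hTT0.symm, Ne.symm ha,
      hTT1.symm, hTT2.symm] at this
    omega
  have hsum : T (T a) = a ^^^ T a := by
    have hlt' := xor_lt hal (hTlt a)
    have hm : a ^^^ T a ∈ S := hdiff a hal
    rcases hthree _ hm with e | e | e | e
    · exact absurd (Nat.xor_eq_zero_iff.1 e).symm ha
    · refine absurd ?_ hTa0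
      have := congrArg (a ^^^ ·) e; simpa [← Nat.xor_assoc] using this
    · refine absurd ?_ ha0'
      have := congrArg (· ^^^ T a) e; simpa [Nat.xor_assoc] using this
    · exact e.symm
  have hqa : K8.q a = true := by
    have e1 := h.act_q hx (a := a) hal
    have e2 := h.act_q hx (a := T a) (hTlt a)
    rw [show h.act x (T a) = a ^^^ T a from hsum] at e2
    have e3 := q_xor a (T a)
    rw [hab, e2, show K8.q (T a) = K8.q a from e1] at e3
    revert e3
    cases K8.q a <;> simp
  refine ⟨a, T a, hx, h3, hal, hTlt a, hqa, (h.act_q hx (a := a) hal).trans hqa, hab, rfl, hsum, fun v hv e1 e2 => ?_⟩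
  have hd := hdiff v hv
  have hperp : ∀ s ∈ S, bq K8 v s = false := by
    intro s hs
    have k1 : bq K8 v a = false := by rw [bq_comm]; exact e1
    have k2 : bq K8 v (T a) = false := by rw [bq_comm]; exact e2
    rcases hthree s hs with rfl | rfl | rfl | rfl
    exacts [by rw [bq_comm, hbq0], k1, k2, by rw [hsum, bq_addr h hal (hTlt a) hv, k1, k2]; rfl]
  have hperpT : ∀ s ∈ S, bq K8 (T v) s = false := by
    intro s hs
    have hs' := hpres _ (hpres s hs)
    have := hperp _ hs'
    rw [← h.bq_act hx hv (hSlt _ hs')] at this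
    change bq K8 (T v) (T (T (T s))) = false at this
    rwa [hT3 s (hSlt s hs)] at this
  have hperpd : ∀ s ∈ S, bq K8 (v ^^^ T v) s = false := fun s hs => by
    rw [bq_add h hv (hTlt v) (hSlt s hs), hperp s hs, hperpT s hs]; rfl
  by_contra hne'
  have hd0 : v ^^^ T v ≠ 0 := fun e => hne' (Nat.xor_eq_zero_iff.1 e).symm
  by_cases e : v ^^^ T v = a
  · have := hperpd _ hTaS; rw [e, hab] at this; simp at this
  · have := hperpd _ haS; rw [hbb _ hd _ haS hd0 ha0' e] at this; simp at this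

/-- The rotation conjugate to one of the standard plane. -/
theorem Rot.exists_std {x : G} {a b : ℕ} (R : Rot h x a b) :
    ∃ c, c * z = z * c ∧ Rot h (c * x * c⁻¹) 34 70 := by
  have hA := toA_ok
  have hAw := toA_wd
  have hB := toB_ok
  have hBw := toB_wd
  simp only [List.all_eq_true, List.mem_range, beq_iff_eq, Bool.and_eq_true, List.contains_eq_mem,
    List.mem_map] at hA hAw hB hBw
  obtain ⟨p, hp, hpa⟩ : ∃ p ∈ toA, p.1 = a := by
    have := hA a R.lta
    rw [R.qa] at this
    simpa using this.symm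
  obtain ⟨c, hc, hca⟩ := h.exists_lift (hAw p hp).1
  have e1 : h.act c a = 34 := by rw [hca a R.lta, ← hpa]; exact (hAw p hp).2
  have R' := R.conj hc
  rw [e1] at R'
  obtain ⟨p', hp', hpb⟩ : ∃ p ∈ toB, p.1 = h.act c b := by
    have := hB _ R'.ltb
    rw [R'.qb, R'.hab] at this
    simpa using this.symm
  obtain ⟨d, hd, hda⟩ := h.exists_lift (hBw p' hp').1.1
  have R'' := R'.conj hd
  rw [hda 34 (by rw [K8_n]; norm_num), (hBw p' hp').1.2, hda _ R'.ltb, ← hpb, (hBw p' hp').2] at R''
  refine ⟨d * c, comm_mul hd hc, ?_⟩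
  rwa [show d * c * x * (d * c)⁻¹ = d * (c * x * c⁻¹) * d⁻¹ by group]

/-- The action of a standard rotation. -/
theorem Rot.act_eq {x : G} (R : Rot h x 34 70) {v : ℕ} (hv : v < 256) : h.act x v = wd K8 rot v := by
  have hok := words_ok
  simp only [Bool.and_eq_true] at hok
  obtain ⟨h1, h2, -, -, hfix⟩ := rot_ok
  simp only [List.all_eq_true, List.mem_range, Bool.or_eq_true, beq_iff_eq] at hfix
  set p : ℕ := (if bq K8 70 v then 34 else 0) ^^^ (if bq K8 34 v then 70 else 0)
  have hp : p < 256 := by simp only [p]; cases bq K8 70 v <;> cases bq K8 34 v <;> decide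
  set w := v ^^^ p
  have hw : w < 256 := xor_lt hv hp
  have hperp : bq K8 34 w = false ∧ bq K8 70 w = false := by
    have k0 : (∀ c, bq K8 34 c = bq K8 34 c) ∧ bq K8 34 34 = false ∧ bq K8 34 70 = true ∧ bq K8 70 34 = true ∧
        bq K8 70 70 = false ∧ bq K8 34 100 = true ∧ bq K8 70 100 = true ∧ bq K8 34 0 = false ∧ bq K8 70 0 = false :=
      ⟨fun _ => rfl, by decide +kernel⟩
    obtain ⟨-, a1, a2, a3, a4, a5, a6, a7, a8⟩ := k0
    constructor
    · show bq K8 34 (v ^^^ p) = false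
      rw [bq_addr h hv hp (by norm_num)]
      simp only [p]
      cases bq K8 70 v <;> cases bq K8 34 v <;> simp [a1, a2, a5, a7]
    · show bq K8 70 (v ^^^ p) = false
      rw [bq_addr h hv hp (by norm_num)]
      simp only [p]
      cases bq K8 70 v <;> cases bq K8 34 v <;> simp [a3, a4, a6, a8]
  have ev : v = w ^^^ p := by simp only [w]; rw [Nat.xor_assoc, Nat.xor_self, Nat.xor_zero]
  have ew : wd K8 rot w = w := (hfix w hw).resolve_left (by simp [hperp.1, hperp.2])
  have h0 : h.act x 0 = 0 := by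
    simpa using h.act_xor R.comm (Nat.two_pow_pos K8.n) (Nat.two_pow_pos K8.n)
  have l0 : wd K8 rot 0 = 0 := by decide +kernel
  have e100 : h.act x 100 = 34 := by
    have := h.act_xor R.comm (show (34 : ℕ) < 2 ^ K8.n by rw [K8_n]; norm_num) (show (70 : ℕ) < 2 ^ K8.n by rw [K8_n]; norm_num)
    rw [R.acta, R.actb] at this
    exact this
  have ep : h.act x p = wd K8 rot p := by
    simp only [p]
    cases bq K8 70 v <;> cases bq K8 34 v <;>
      simp [h0, l0, R.acta, R.actb, h1, h2, e100, show wd K8 rot 100 = 34 by decide +kernel]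
  rw [ev, h.act_xor R.comm hw hp, lin_wd h hok.1.1.1 w hw p hp, ew, R.fix w hw hperp.1 hperp.2, ep]

end Cfsg.Agent.Invol.Co1.Three
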