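import Cfsg.Agent.Lib.Invol.Co1.Three.Cent
import Cfsg.Agent.Lib.Invol.Suz.Classes

/-!
# The centralizer of the rotation modulo the rotation
-/

set_option autoImplicit false
set_option linter.unusedSectionVars false
set_option maxRecDepth 100000

namespace Cfsg.Agent.Invol.Co1.Three

open Cfsg.Agent.Classical.BinCoc Cfsg.Agent.Invol.Big Cfsg.Agent.Invol.Big.Code
open scoped commutatorElement

theorem k6_lt : ∀ n, n < 64 ↔ n < 2 ^ Suz.K6.n := fun _ => Iff.rfl

theorem bq_emb {m n : ℕ} (hm : m < 64) (hn : n < 64) : bq K8 (emb m) (emb n) = bq Suz.K6 m n := by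
  have he := emb_ok
  have hx := emb_xor_ok
  simp only [List.all_eq_true, List.mem_range, Bool.and_eq_true, beq_iff_eq] at he hx
  unfold bq
  rw [← hx m hm n hn, (he m hm).1.2, (he n hn).1.2, (he _ (Nat.xor_lt_two_pow (n := 6) hm hn)).1.2]

theorem wd_emb {w : List ℕ} (hw : ∀ a ∈ w, a < 64) {n : ℕ} (hn : n < 64) :
    wd Suz.K6 w n < 64 ∧ wd K8 (w.map emb) (emb n) = emb (wd Suz.K6 w n) ∧
      wd K8 (w.map emb) 34 = 34 ∧ wd K8 (w.map emb) 70 = 70 := by
  have he := emb_ok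
  have hx := emb_xor_ok
  simp only [List.all_eq_true, List.mem_range, Bool.and_eq_true, decide_eq_true_eq, Bool.not_eq_true',
    beq_iff_eq] at he hx
  induction w with
  | nil => exact ⟨hn, rfl, rfl, rfl⟩
  | cons a w ih =>
    obtain ⟨i1, i2, i3, i4⟩ := ih fun b hb => hw b (List.mem_cons_of_mem _ hb)
    have ha := hw a (List.mem_cons_self ..)
    obtain ⟨⟨⟨⟨-, p1⟩, p2⟩, -⟩, -⟩ := he a ha
    refine ⟨?_, ?_, ?_, ?_⟩
    · show tr Suz.K6 a (wd Suz.K6 w n) < 64
      unfold tr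
      split_ifs
      · exact Nat.xor_lt_two_pow (n := 6) i1 ha
      · exact i1
    · show tr K8 (emb a) (wd K8 (w.map emb) (emb n)) = emb (tr Suz.K6 a (wd Suz.K6 w n))
      rw [i2]
      unfold tr
      rw [bq_emb ha i1]
      split_ifs
      · exact (hx _ i1 a ha).symm
      · rfl
    · show tr K8 (emb a) (wd K8 (w.map emb) 34) = 34
      rw [i3]; unfold tr; rw [bq_comm, p1]; rfl
    · show tr K8 (emb a) (wd K8 (w.map emb) 70) = 70
      rw [i4]; unfold tr; rw [bq_comm, p2]; rfl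

variable {G : Type*} [Group G] [Finite G] {z : G} {Q : Subgroup G} {cd : G → ℕ}

/-- The rotation in its centralizer. -/
def xM (x : G) : ↥(Subgroup.centralizer ({x} : Set G)) := ⟨x, Subgroup.mem_centralizer_singleton_iff.2 rfl⟩

instance zpowers_xM_normal (x : G) : (Subgroup.zpowers (xM x)).Normal := ⟨fun n hn u => by
  obtain ⟨i, rfl⟩ := Subgroup.mem_zpowers_iff.1 hn
  have hc : Commute u (xM x) := Subtype.ext (Subgroup.mem_centralizer_singleton_iff.1 u.2)
  rw [(hc.zpow_right i).eq, mul_inv_cancel_right]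
  exact ⟨i, rfl⟩⟩

/-- The centralizer modulo the rotation. -/
abbrev MX (x : G) : Type _ := ↥(Subgroup.centralizer ({x} : Set G)) ⧸ Subgroup.zpowers (xM x)

/-- The projection. -/
def mkX (x : G) : ↥(Subgroup.centralizer ({x} : Set G)) →* MX x := QuotientGroup.mk' _

theorem mkX_surj (x : G) : Function.Surjective (mkX x) := QuotientGroup.mk'_surjective _

theorem mkX_eq {x : G} {u v : ↥(Subgroup.centralizer ({x} : Set G))} (e : mkX x u = mkX x v) :
    ∃ n : ℕ, (v : G) = u * x ^ n := by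
  have := QuotientGroup.eq.1 e
  rw [← mem_powers_iff_mem_zpowers] at this
  obtain ⟨n, hn⟩ := this
  simp only at hn
  exact ⟨n, by rw [show x ^ n = ((xM x ^ n : ↥(Subgroup.centralizer ({x} : Set G))) : G) from rfl, hn]; simp⟩

theorem mkX_inj4 {x : G} (h3 : x ^ 3 = 1) {u v : ↥(Subgroup.centralizer ({x} : Set G))} (hu : (u : G) ^ 4 = 1)
    (hv : (v : G) ^ 4 = 1) (e : mkX x u = mkX x v) : (u : G) = v := by
  obtain ⟨n, hn⟩ := mkX_eq e
  have hc : Commute (u : G) (x ^ n) := (show Commute (u : G) x from Subgroup.mem_centralizer_singleton_iff.1 u.2).pow_right n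
  have h4 : (x ^ n) ^ 4 = 1 := by
    have := congrArg (· ^ 4) hn
    simp only [hc.mul_pow, hu, hv, one_mul] at this
    exact this.symm
  have h3' : (x ^ n) ^ 3 = 1 := by rw [← pow_mul, mul_comm, pow_mul, h3, one_pow]
  rw [pow_succ, h3', one_mul] at h4
  rw [hn, h4, mul_one]

/-- The part of `Q` commuting with the rotation. -/
def QX (Q : Subgroup G) (x : G) : Subgroup G := Q ⊓ Subgroup.centralizer ({x} : Set G)

/-- Its image. -/
def Qb (Q : Subgroup G) (x : G) : Subgroup (MX x) :=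
  ((QX Q x).subgroupOf (Subgroup.centralizer ({x} : Set G))).map (mkX x)

variable {h : Code K8 z Q cd} {x : G}

/-- The image of the centre. -/
def Rot.zb (R : Rot h x 34 70) : MX x := mkX x ⟨z, Subgroup.mem_centralizer_singleton_iff.2 R.comm.symm⟩

open _root_.Classical in
/-- The code of a member of the image. -/
noncomputable def cdb (Q : Subgroup G) (cd : G → ℕ) (x : G) (u : MX x) : ℕ :=
  if hu : ∃ q : ↥(Subgroup.centralizer ({x} : Set G)), (q : G) ∈ Q ∧ mkX x q = u then prj (cd (hu.choose : G)) else 0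

theorem cdb_mk (R : Rot h x 34 70) {q : ↥(Subgroup.centralizer ({x} : Set G))} (hq : (q : G) ∈ Q) :
    cdb Q cd x (mkX x q) = prj (cd (q : G)) := by
  have hu : ∃ p : ↥(Subgroup.centralizer ({x} : Set G)), (p : G) ∈ Q ∧ mkX x p = mkX x q := ⟨q, hq, rfl⟩
  rw [cdb, dif_pos hu]
  obtain ⟨h1, h2⟩ := hu.choose_spec
  rw [mkX_inj4 R.pow (pow_four h h1) (pow_four h hq) h2]

theorem code_QX (R : Rot h x 34 70) {q : ↥(Subgroup.centralizer ({x} : Set G))} (hq : (q : G) ∈ Q) :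
    prj (cd (q : G)) < 64 ∧ emb (prj (cd (q : G))) = cd (q : G) := by
  have hp := perp_ok
  simp only [List.all_eq_true, List.mem_range, Bool.and_eq_true, Bool.or_eq_true, decide_eq_true_eq, beq_iff_eq] at hp
  obtain ⟨a1, a2⟩ := (mem_QX R hq).1 (Subgroup.mem_centralizer_singleton_iff.1 q.2)
  exact (hp _ (h.lt _ hq)).resolve_left (by simp [a1, a2])

theorem mem_Qb {u : MX x} (hu : u ∈ Qb Q x) :
    ∃ q : ↥(Subgroup.centralizer ({x} : Set G)), (q : G) ∈ Q ∧ mkX x q = u := by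
  obtain ⟨q, hq, e⟩ := hu
  exact ⟨q, (Subgroup.mem_inf.1 hq).1, e⟩

theorem mk_mem_Qb {q : ↥(Subgroup.centralizer ({x} : Set G))} (hq : (q : G) ∈ Q) : mkX x q ∈ Qb Q x :=
  ⟨q, Subgroup.mem_inf.2 ⟨hq, q.2⟩, rfl⟩

theorem Rot.cent_lift (R : Rot h x 34 70) {u : MX x} (hu : u * R.zb = R.zb * u) :
    ∃ c : ↥(Subgroup.centralizer ({x} : Set G)), (c : G) ∈ SX h x ∧ mkX x c = u := by
  obtain ⟨c, rfl⟩ := mkX_surj x u
  set zM : ↥(Subgroup.centralizer ({x} : Set G)) := ⟨z, Subgroup.mem_centralizer_singleton_iff.2 R.comm.symm⟩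
  have hcz : (c : G) * z = z * c := by
    refine mul_inv_eq_iff_eq_mul.1 ?_
    have := mkX_inj4 R.pow (u := c * zM * c⁻¹) (v := zM)
      (by show ((c : G) * z * (c : G)⁻¹) ^ 4 = 1; rw [conj_pow, pow_four h h.ext.mem]; simp)
      (pow_four h h.ext.mem) (by
        rw [map_mul, map_mul, map_inv, mul_inv_eq_iff_eq_mul]
        exact hu)
    simpa using this
  obtain ⟨i, s, hs, e⟩ := cent R hcz (Subgroup.mem_centralizer_singleton_iff.1 c.2)
  refine ⟨⟨s, (Subgroup.mem_inf.1 hs).2⟩, hs, ?_⟩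
  rw [show c = xM x ^ i * ⟨s, (Subgroup.mem_inf.1 hs).2⟩ from Subtype.ext e, map_mul,
    show mkX x (xM x ^ i) = 1 from (QuotientGroup.eq_one_iff _).2 (pow_mem (Subgroup.mem_zpowers _) i), one_mul]

/-- The coded quotient. -/
theorem Rot.code6 (R : Rot h x 34 70) : Code Suz.K6 R.zb (Qb Q x) (cdb Q cd x) := by
  classical
  set zM : ↥(Subgroup.centralizer ({x} : Set G)) := ⟨z, Subgroup.mem_centralizer_singleton_iff.2 R.comm.symm⟩ with hzM
  have hzb : R.zb = mkX x zM := rfl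
  have he := emb_ok
  simp only [List.all_eq_true, List.mem_range, Bool.and_eq_true, decide_eq_true_eq, Bool.not_eq_true', beq_iff_eq] at he
  have hcmap : ∀ (k : ℕ), mkX x (zM ^ k) = R.zb ^ k := fun k => map_pow _ _ _
  refine
    { ext := ⟨mk_mem_Qb (q := zM) h.ext.mem, ?_, ?_, ?_, ?_, ?_, ?_, ?_, ?_⟩
      two := ?_, lt := ?_, surj := ?_, mul := ?_, ker := ?_, sq := ?_, lift := ?_ }
  · exact fun e => h.ne (mkX_inj4 R.pow (u := zM) (v := 1) (pow_four h h.ext.mem) (by simp) (by rw [map_one]; exact e))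
  · rw [hzb, ← map_mul, show zM * zM = 1 from Subtype.ext h.ext.zz, map_one]
  · intro u hu
    obtain ⟨q, hq, rfl⟩ := mem_Qb hu
    rw [hzb, ← map_mul, ← map_mul]
    exact congrArg _ (Subtype.ext (h.ext.central _ hq))
  · intro u hu v hv
    obtain ⟨p, hp, rfl⟩ := mem_Qb hu
    obtain ⟨q, hq, rfl⟩ := mem_Qb hv
    rw [hzb, ← map_commutatorElement]
    refine (h.ext.comm _ hp _ hq).imp (fun e => ?_) fun e => ?_
    · rw [show ⁅p, q⁆ = (1 : ↥(Subgroup.centralizer ({x} : Set G))) from Subtype.ext e, map_one]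
    · rw [show ⁅p, q⁆ = zM from Subtype.ext e]
  · intro u hu
    obtain ⟨q, hq, rfl⟩ := mem_Qb hu
    rw [hzb, ← map_mul, ← map_one (mkX x)]
    exact (h.ext.sq _ hq).imp (fun e => congrArg _ (Subtype.ext e)) fun e => congrArg _ (Subtype.ext e)
  · intro u hu hcom
    obtain ⟨p, hp, rfl⟩ := mem_Qb hu
    have h0 : cd (p : G) = 0 := by
      obtain ⟨hl, hv⟩ := code_QX R hp
      have hz0 : ∀ m < 64, bq Suz.K6 (prj (cd (p : G))) m = false := by
        intro m hm
        rw [← bq_emb hl hm, hv]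
        obtain ⟨⟨⟨⟨hml, m1⟩, m2⟩, -⟩, -⟩ := he m hm
        have hr : cd (h.rep (emb m)) = emb m := h.cd_rep hml
        have hrx : h.rep (emb m) ∈ Subgroup.centralizer ({x} : Set G) := Subgroup.mem_centralizer_singleton_iff.2
          ((mem_QX R (h.rep_mem _)).2 (by rw [hr]; exact ⟨m1, m2⟩))
        have e := hcom _ (mk_mem_Qb (q := ⟨_, hrx⟩) (h.rep_mem _))
        rw [← map_mul, ← map_mul] at e
        have e' : h.rep (emb m) * (p : G) = p * h.rep (emb m) := mkX_inj4 R.pow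
          (u := ⟨_, hrx⟩ * p) (v := p * ⟨_, hrx⟩) (pow_four h (mul_mem (h.rep_mem _) hp))
          (pow_four h (mul_mem hp (h.rep_mem _))) e
        have := (h.commute_iff hp (h.rep_mem _)).1 e'.symm
        rwa [hr] at this
      have hnd : ((List.range 64).all fun n => n == 0 || (List.range 64).any fun m => bq Suz.K6 n m) = true := by
        decide +kernel
      simp only [List.all_eq_true, List.mem_range, Bool.or_eq_true, beq_iff_eq, List.any_eq_true] at hnd
      rcases hnd _ hl with e | ⟨m, hm, e⟩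
      · rw [← hv, e]; decide
      · rw [hz0 m hm] at e; simp at e
    rcases (h.ker _ hp).1 h0 with e | e
    · exact Or.inl (by rw [show p = 1 from Subtype.ext e, map_one])
    · exact Or.inr (by rw [show p = zM from Subtype.ext e, hzb])
  · intro u hcom
    obtain ⟨s, hs, rfl⟩ := R.cent_lift (hcom _ (mk_mem_Qb (q := zM) h.ext.mem)).symm
    obtain ⟨⟨hsz, h1, h2⟩, -⟩ := mem_SX.1 hs
    refine mk_mem_Qb ((h.mem_iff hsz).2 fun a ha => ?_)
    have hemb : ∀ m < 64, h.act (s : G) (emb m) = emb m := by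
      intro m hm
      obtain ⟨⟨⟨⟨hml, m1⟩, m2⟩, -⟩, -⟩ := he m hm
      have hr : cd (h.rep (emb m)) = emb m := h.cd_rep hml
      have hrx : h.rep (emb m) ∈ Subgroup.centralizer ({x} : Set G) := Subgroup.mem_centralizer_singleton_iff.2
        ((mem_QX R (h.rep_mem _)).2 (by rw [hr]; exact ⟨m1, m2⟩))
      have e := hcom _ (mk_mem_Qb (q := ⟨_, hrx⟩) (h.rep_mem _))
      have hn := h.ext.norm _ hsz _ (h.rep_mem (emb m))
      have e' := mkX_inj4 R.pow (u := s * ⟨_, hrx⟩ * s⁻¹) (v := ⟨_, hrx⟩) (pow_four h hn) (pow_four h (h.rep_mem _))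
        (by rw [map_mul, map_mul, map_inv, ← e, mul_inv_cancel_right])
      show cd ((s : G) * h.rep (emb m) * (s : G)⁻¹) = _
      rw [show (s : G) * h.rep (emb m) * (s : G)⁻¹ = h.rep (emb m) from e', hr]
    have hcov : ((List.range 256).all fun v => (List.range 64).any fun m =>
        v == emb m || v == emb m ^^^ 34 || v == emb m ^^^ 70 || v == emb m ^^^ 100) = true := by decide +kernel
    simp only [List.all_eq_true, List.mem_range, List.any_eq_true, Bool.or_eq_true, beq_iff_eq] at hcov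
    obtain ⟨m, hm, e⟩ := hcov a ha
    have hml := (he m hm).1.1.1.1
    have h34 : (34 : ℕ) < 2 ^ K8.n := by rw [K8_n]; norm_num
    have h70 : (70 : ℕ) < 2 ^ K8.n := by rw [K8_n]; norm_num
    rcases e with ((e | e) | e) | e <;> subst e
    · exact hemb m hm
    · rw [h.act_xor hsz hml h34, hemb m hm, h1]
    · rw [h.act_xor hsz hml h70, hemb m hm, h2]
    · rw [show (100 : ℕ) = 34 ^^^ 70 from rfl, h.act_xor hsz hml (Nat.xor_lt_two_pow h34 h70), hemb m hm,
        h.act_xor hsz h34 h70, h1, h2]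
  · intro c hc u hu
    obtain ⟨s, hs, rfl⟩ := R.cent_lift hc
    obtain ⟨q, hq, rfl⟩ := mem_Qb hu
    rw [← map_inv, ← map_mul, ← map_mul]
    exact mk_mem_Qb (h.ext.norm _ (mem_SX.1 hs).1.1 _ hq)
  · refine IsPGroup.map ?_ _
    intro q
    refine ⟨2, Subtype.ext (Subtype.ext ?_)⟩
    exact pow_four h (Subgroup.mem_inf.1 (Subgroup.mem_subgroupOf.1 q.2)).1
  · intro u hu
    obtain ⟨q, hq, rfl⟩ := mem_Qb hu
    rw [cdb_mk R hq]; exact (code_QX R hq).1
  · intro a ha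
    obtain ⟨⟨⟨⟨hal, a1⟩, a2⟩, -⟩, ap⟩ := he a ha
    have hr : cd (h.rep (emb a)) = emb a := h.cd_rep hal
    refine ⟨_, mk_mem_Qb (q := ⟨_, Subgroup.mem_centralizer_singleton_iff.2 ((mem_QX R (h.rep_mem (emb a))).2
      (by rw [hr]; exact ⟨a1, a2⟩))⟩) (h.rep_mem _), ?_⟩
    rw [cdb_mk R (h.rep_mem _), hr, ap]
  · intro u hu v hv
    obtain ⟨p, hp, rfl⟩ := mem_Qb hu
    obtain ⟨q, hq, rfl⟩ := mem_Qb hv
    rw [← map_mul, cdb_mk R hp, cdb_mk R hq, cdb_mk R (show ((p * q : ↥(Subgroup.centralizer ({x} : Set G))) : G) ∈ Q from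
      mul_mem hp hq)]
    obtain ⟨l1, v1⟩ := code_QX R hp
    obtain ⟨l2, v2⟩ := code_QX R hq
    have hx := emb_xor_ok
    simp only [List.all_eq_true, List.mem_range, beq_iff_eq] at hx
    show prj (cd ((p : G) * q)) = _
    rw [h.mul _ hp _ hq]
    conv_lhs => rw [← v1, ← v2, ← hx _ l1 _ l2]
    exact (he _ (Nat.xor_lt_two_pow (n := 6) l1 l2)).2
  · intro u hu
    obtain ⟨q, hq, rfl⟩ := mem_Qb hu
    rw [cdb_mk R hq]
    obtain ⟨l1, v1⟩ := code_QX R hq
    constructor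
    · intro e
      rcases (h.ker _ hq).1 (by rw [← v1, e]; decide) with e' | e'
      · exact Or.inl (by rw [show q = 1 from Subtype.ext e', map_one])
      · exact Or.inr (by rw [show q = zM from Subtype.ext e', hzb])
    · intro e
      have hq' : (q : G) = 1 ∨ (q : G) = z := by
        rcases e with e | e
        · exact Or.inl (mkX_inj4 R.pow (v := 1) (pow_four h hq) (by simp) (by rw [e, map_one]))
        · exact Or.inr (mkX_inj4 R.pow (v := zM) (pow_four h hq) (pow_four h h.ext.mem) e)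
      rw [(h.ker _ hq).2 hq']
      decide +kernel
  · intro u hu
    obtain ⟨q, hq, rfl⟩ := mem_Qb hu
    obtain ⟨l1, v1⟩ := code_QX R hq
    rw [cdb_mk R hq, ← map_mul, ← hcmap]
    refine congrArg _ (Subtype.ext ?_)
    show (q : G) * q = ((zM ^ qn Suz.K6 _ : ↥(Subgroup.centralizer ({x} : Set G))) : G)
    rw [h.sq _ hq]
    show z ^ qn K8 (cd (q : G)) = z ^ qn Suz.K6 (prj (cd (q : G)))
    unfold qn
    conv_lhs => rw [← v1, (he _ l1).1.2]
  · intro w hw
    simp only [Wok, Bool.and_eq_true, List.all_eq_true, decide_eq_true_eq] at hw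
    obtain ⟨⟨hwq, hwl⟩, -⟩ := hw
    have hw64 : ∀ a ∈ w, a < 64 := fun a ha => (hwq a ha).2
    have hk : Wok K8 (w.map emb) = true := by
      rw [wok_eq]
      simp only [wk, Bool.and_eq_true, List.all_eq_true, List.mem_map, decide_eq_true_eq, List.length_map]
      refine ⟨?_, hwl⟩
      rintro _ ⟨a, ha, rfl⟩
      obtain ⟨⟨⟨⟨hal, -⟩, -⟩, hq⟩, -⟩ := he a (hw64 a ha)
      exact ⟨hq ▸ (hwq a ha).1, hal⟩
    obtain ⟨-, -, k1, k2⟩ := wd_emb hw64 (n := 0) (by norm_num)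
    obtain ⟨c, hc, hca⟩ := exists_word R hk k1 k2
    have hcx := (Subgroup.mem_inf.1 hc).2
    refine ⟨mkX x ⟨c, hcx⟩, ?_, fun u hu => ?_⟩
    · rw [hzb, ← map_mul, ← map_mul]; exact congrArg _ (Subtype.ext hca.1)
    · obtain ⟨q, hq, rfl⟩ := mem_Qb hu
      obtain ⟨l1, v1⟩ := code_QX R hq
      have hn := h.ext.norm _ hca.1 _ hq
      rw [← map_inv, ← map_mul, ← map_mul, cdb_mk R hq,
        cdb_mk R (show ((⟨c, hcx⟩ * q * ⟨c, hcx⟩⁻¹ : ↥(Subgroup.centralizer ({x} : Set G))) : G) ∈ Q from hn)]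
      obtain ⟨hlt, hwd, -, -⟩ := wd_emb hw64 l1
      show prj (cd (c * (q : G) * c⁻¹)) = _
      rw [← h.act_cd hca.1 hq, hca.2 _ (h.lt _ hq)]
      conv_lhs => rw [← v1, hwd]
      exact (he _ hlt).2

/-- A member of the second extraspecial group moving the centre and commuting with the rotation. -/
theorem Rot.exists_mover (R : Rot h x 34 70) {g : G} (P : Pr z Q cd g) (hQ : Nat.card Q = 512) :
    ∃ w, w * x = x * w ∧ w * z * w⁻¹ = z * (g * z * g⁻¹) ∧ (g * z * g⁻¹) * x = x * (g * z * g⁻¹) := by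
  set t := g * z * g⁻¹ with ht
  have hxt : x * t = t * x := fix_commute (h := h) R.comm R.pow P.hg (by
    rw [P.hv, R.act_eq (by decide)]; decide +kernel)
  have E := P.code.extc g
  have hzQc : z ∈ Qc Q g := P.code.symm P.big P.hg
  obtain ⟨x0, hx0, hne⟩ : ∃ x0 ∈ Qc Q g, x0 * z ≠ z * x0 := by
    by_contra hcon
    push Not at hcon
    rcases E.cen z hzQc hcon with e | e
    · exact P.code.ne e
    · exact P.hne e.symm
  have hx0z : x0 * z * x0⁻¹ = z * t := ((E.conj_cases hzQc hx0).resolve_left hne).2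
  set D := Qc Q g ⊓ Subgroup.centralizer ({z} : Set G)
  have hD : ¬ 3 ∣ Nat.card D := fun h3 => by
    have hd := h3.trans (Subgroup.card_dvd_of_le (inf_le_left : D ≤ Qc Q g))
    rw [Qc, ← Nat.card_congr (Q.equivMapOfInjective _ (MulAut.conj g).injective).toEquiv, hQ] at hd
    norm_num at hd
  set y := x0⁻¹ * x * x0 with hy
  obtain ⟨d, hd, he⟩ := exists_fixed (D := D) R.pow (y := y) (by
    rw [hy]
    nth_rewrite 2 [← inv_inv x0]
    rw [conj_pow, R.pow]; simp) hD (fun d hd => by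
    obtain ⟨hd1, hd2⟩ := Subgroup.mem_inf.1 hd
    have hdz : d * z * d⁻¹ = z := mul_inv_eq_iff_eq_mul.2 (Subgroup.mem_centralizer_singleton_iff.1 hd2)
    have hk : x * (x0 * d) * x⁻¹ ∈ Qc Q g := E.norm x hxt _ (mul_mem hx0 hd1)
    have e0 : y * d * x⁻¹ = x0⁻¹ * (x * (x0 * d) * x⁻¹) := by rw [hy]; group
    rw [e0]
    refine Subgroup.mem_inf.2 ⟨mul_mem (inv_mem hx0) hk, Subgroup.mem_centralizer_singleton_iff.2 ?_⟩
    refine mul_inv_eq_iff_eq_mul.1 ?_
    have exz : x⁻¹ * z * x = z := by rw [mul_assoc, ← R.comm, inv_mul_cancel_left]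
    calc x0⁻¹ * (x * (x0 * d) * x⁻¹) * z * (x0⁻¹ * (x * (x0 * d) * x⁻¹))⁻¹ =
        x0⁻¹ * (x * (x0 * (d * (x⁻¹ * z * x) * d⁻¹) * x0⁻¹) * x⁻¹) * x0 := by group
      _ = x0⁻¹ * ((x * z * x⁻¹) * (x * t * x⁻¹)) * x0 := by rw [exz, hdz, hx0z]; group
      _ = x0⁻¹ * (z * t) * x0 := by rw [mul_inv_eq_iff_eq_mul.2 R.comm, mul_inv_eq_iff_eq_mul.2 hxt]
      _ = z := by rw [← hx0z]; group)
  obtain ⟨hd1, hd2⟩ := Subgroup.mem_inf.1 hd
  refine ⟨x0 * d, ?_, ?_, hxt.symm⟩
  · calc x0 * d * x = x0 * (y * d) := by rw [he, mul_assoc]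
      _ = _ := by rw [hy]; group
  · rw [show x0 * d * z * (x0 * d)⁻¹ = x0 * (d * z * d⁻¹) * x0⁻¹ by group,
      mul_inv_eq_iff_eq_mul.2 (Subgroup.mem_centralizer_singleton_iff.1 hd2), hx0z]

theorem card_Qb (R : Rot h x 34 70) : Nat.card (Qb Q x) = 128 := by
  rw [← card_QX R]
  refine (Nat.card_congr (Equiv.ofBijective (fun q : ↥(Q ⊓ Subgroup.centralizer ({x} : Set G) : Subgroup G) =>
    (⟨mkX x ⟨q.1, (Subgroup.mem_inf.1 q.2).2⟩, mk_mem_Qb (Subgroup.mem_inf.1 q.2).1⟩ : ↥(Qb Q x)))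
    ⟨fun a c e => ?_, fun u => ?_⟩)).symm
  · exact Subtype.ext (mkX_inj4 R.pow (pow_four h (Subgroup.mem_inf.1 a.2).1) (pow_four h (Subgroup.mem_inf.1 c.2).1)
      (congrArg Subtype.val e))
  · obtain ⟨q, hq, e⟩ := mem_Qb u.2
    exact ⟨⟨q.1, Subgroup.mem_inf.2 ⟨hq, q.2⟩⟩, Subtype.ext e⟩

/-- The quotient is of Suzuki type. -/
theorem Rot.setting (R : Rot h x 34 70) {g : G} (P : Pr z Q cd g) (hQ : Nat.card Q = 512)
    (hC : Nat.card (Subgroup.centralizer ({z} : Set G)) = 42525 * (2 ^ 12 * Nat.card Q)) :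
    Suz.Setting R.zb (Qb Q x) (cdb Q cd x) := by
  obtain ⟨w, hwx, hwz, htx⟩ := R.exists_mover P hQ
  have h34 : (34 : ℕ) < 2 ^ K8.n := by rw [K8_n]; norm_num
  refine ⟨R.code6, by rw [card_Qb R]; norm_num, ?_, ?_⟩
  · refine ⟨mkX x ⟨w, Subgroup.mem_centralizer_singleton_iff.2 hwx⟩, ?_, fun e => ?_⟩
    · rw [Rot.zb, ← map_inv, ← map_mul, ← map_mul]
      refine mk_mem_Qb ?_
      show w * z * w⁻¹ ∈ Q
      rw [hwz]
      exact mul_mem h.ext.mem P.hg
    · rw [Rot.zb, ← map_inv, ← map_mul, ← map_mul] at e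
      have e' := mkX_inj4 R.pow (by
        show (w * z * w⁻¹) ^ 4 = 1
        rw [hwz]; exact pow_four h (mul_mem h.ext.mem P.hg)) (pow_four h h.ext.mem) e
      have e'' : w * z * w⁻¹ = z := e'
      rw [hwz] at e''
      exact (P.code.extc g).ne (mul_eq_left.1 e'')
  · rw [card_Qb R, show Suz.sd.lev = 6 from rfl]
    rw [show 405 * (2 ^ 6 * 128) = Nat.card (SX h x) by rw [card_SX R hQ hC]; norm_num]
    refine (Nat.card_congr (Equiv.ofBijective (fun s : ↥(SX h x) =>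
      (⟨mkX x ⟨s.1, (Subgroup.mem_inf.1 s.2).2⟩, Subgroup.mem_centralizer_singleton_iff.2 (by
        rw [Rot.zb, ← map_mul, ← map_mul]
        exact congrArg _ (Subtype.ext (mem_SX.1 s.2).1.1))⟩ : ↥(Subgroup.centralizer ({R.zb} : Set (MX x)))))
      ⟨fun a c e => ?_, fun u => ?_⟩)).symm
    · obtain ⟨n, hn⟩ := mkX_eq (congrArg Subtype.val e)
      refine Subtype.ext ?_
      have hn' : c.1 = a.1 * x ^ n := hn
      have hm : x ^ n ∈ S34 h := by
        rw [show x ^ n = a.1⁻¹ * c.1 by rw [hn', inv_mul_cancel_left]]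
        exact mul_mem (inv_mem (Subgroup.mem_inf.1 a.2).1) (Subgroup.mem_inf.1 c.2).1
      have hmod : x ^ n = x ^ (n % 3) := by
        conv_lhs => rw [← Nat.div_add_mod n 3, pow_add, pow_mul, R.pow, one_pow, one_mul]
      rw [hmod] at hm hn'
      have : n % 3 = 0 := by
        rcases (show n % 3 = 0 ∨ n % 3 = 1 ∨ n % 3 = 2 by omega) with k | k | k
        · exact k
        · have := hm.2.1; rw [k, pow_one, R.acta] at this; omega
        · have := hm.2.1; rw [k, pow_two, h.act_mul R.comm R.comm h34, R.acta, R.actb] at this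
          exact absurd this (by decide)
      rw [hn', this, pow_zero, mul_one]
    · obtain ⟨s, hs, e⟩ := R.cent_lift (Subgroup.mem_centralizer_singleton_iff.1 u.2)
      exact ⟨⟨s.1, hs⟩, Subtype.ext e⟩

end Cfsg.Agent.Invol.Co1.Three
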