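import Cfsg.Agent.Lib.Invol.Co1.Sep
import Cfsg.Agent.Lib.Invol.Suz.Data

/-!
# A plane of nonsingular vectors in eight variables and the six variables perpendicular to it
-/

set_option autoImplicit false
set_option maxRecDepth 100000

namespace Cfsg.Agent.Invol.Co1.Three

open Cfsg.Agent.Classical.BinCoc Cfsg.Agent.Invol.Big Cfsg.Agent.Invol.Big.Code

/-- The plane. -/
def pln : List ℕ := [0, 34, 70, 100]

/-- Words moving a nonsingular vector to `34`. -/
def toA : List (ℕ × List ℕ) := [(17, [71, 116]), (19, [17, 49]), (21, [70, 113]), (23, [17, 53]), (25, [71, 124]), (27, [17, 57]), (29, [70, 121]), (31, [17, 61]), (34, []), (35, [70, 71]), (38, [19, 23]), (39, [83, 86]), (42, [19, 27]), (43, [70, 79]), (46, [19, 31]), (47, [83, 94]), (49, [17, 19]), (50, [70, 86]), (53, [17, 23]), (54, [71, 83]), (57, [17, 27]), (58, [70, 94]), (61, [17, 31]), (62, [71, 91]), (68, [23, 113]), (69, [19, 116]), (70, [17, 100]), (71, [17, 101]), (76, [23, 121]), (77, [19, 124]), (78, [17, 108]), (79, [17, 109]), (81, [23, 100]), (83, [17, 113]), (84, [19, 101]),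 (86, [17, 116]), (89, [23, 108]), (91, [17, 121]), (92, [19, 109]), (94, [17, 124]), (98, [19, 83]), (99, [23, 86]), (100, [17, 70]), (101, [17, 71]), (106, [19, 91]), (107, [23, 94]), (108, [17, 78]), (109, [17, 79]), (113, [17, 83]), (114, [23, 71]), (116, [17, 86]), (119, [19, 70]), (121, [17, 91]), (122, [23, 79]), (124, [17, 94]), (127, [19, 78]), (136, [27, 177]), (137, [19, 184]), (138, [17, 168]), (139, [17, 169]), (140, [27, 181]), (141, [19, 188]), (142, [17, 172]), (143, [17, 173]), (145, [27, 168]), (147, [17, 177]), (149, [27, 172]), (151, [17, 181]), (152, [19, 169]), (154, [17, 184]), (156, [19, 173]), (158, [17, 188]), (162, [19, 147]), (163, [27, 154]), (166, [19, 151]), (167, [27, 158]), (168, [17, 138]), (169, [17, 139]), (172, [17, 142]), (173, [17, 143]), (177, [17, 147]), (178, [27, 139]), (181, [17, 151]), (182, [27, 143]), (184, [17, 154]), (187, [19, 138]), (188, [17, 158]), (191, [19, 142]), (196, [23, 241]), (197, [19, 244]), (198, [17, 228]), (199, [17, 229]), (200, [23, 253]), (201, [19, 248]), (202, [17, 232]), (203,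 [17, 233]), (209, [23, 228]), (211, [17, 241]), (212, [19, 229]), (214, [17, 244]), (216, [19, 233]), (218, [17, 248]), (221, [23, 232]), (223, [17, 253]), (226, [19, 211]), (227, [23, 214]), (228, [17, 198]), (229, [17, 199]), (232, [17, 202]), (233, [17, 203]), (238, [19, 223]), (239, [23, 218]), (241, [17, 211]), (242, [23, 199]), (244, [17, 214]), (247, [19, 198]), (248, [17, 218]), (251, [19, 202]), (253, [17, 223]), (254, [23, 203])]

/-- Words fixing `34` and moving a nonsingular vector off its perpendicular space to `70`. -/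
def toB : List (ℕ × List ℕ) := [(19, [34, 119]), (23, [17, 81]), (27, [34, 127]), (31, [17, 89]), (49, [17, 119]), (53, [34, 81]), (57, [17, 127]), (61, [34, 89]), (70, []), (71, [34, 35]), (78, [21, 29]), (79, [34, 43]), (83, [17, 21]), (86, [34, 50]), (91, [17, 29]), (94, [34, 58]), (100, [17, 34]), (101, [17, 35]), (108, [17, 42]), (109, [17, 43]), (113, [21, 34]), (116, [17, 50]), (121, [21, 42]), (124, [17, 58]), (138, [29, 209]), (139, [21, 216]), (142, [17, 200]), (143, [17, 201]), (147, [29, 200]), (151, [17, 209]), (154, [21, 201]), (158, [17, 216]), (168, [17, 238]), (169, [17, 239]), (172, [29, 247]), (173, [21, 254]), (177, [17, 247]), (181, [29, 238]), (184, [17, 254]), (188, [21, 239]), (198, [21, 149]), (199, [29, 156]), (202, [17, 140]), (203, [17, 141]), (211, [17, 149]), (214, [29, 141]), (218, [17, 156]), (223, [21, 140]), (228, [17, 162]), (229, [17, 163]), (232, [21, 187]), (233, [29, 178]), (241, [21, 162]), (244, [17, 178]), (248, [29, 163]), (253, [17, 187])]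

/-- The rotation of the plane. -/
def rot : List ℕ := [34, 70]

/-- The rotation of a second plane. -/
def rot2 : List ℕ := [38, 68]

/-- Exchanging the two planes. -/
def swp : List ℕ := [17, 19, 21, 23]

/-- Inverting the first rotation and fixing the second plane. -/
def flp : List ℕ := [17, 100]

/-- The coordinates of the perpendicular space. -/
def emb (n : ℕ) : ℕ :=
  (if n.testBit 0 then 1 else 0) ^^^ (if n.testBit 1 then 8 else 0) ^^^ (if n.testBit 2 then 16 else 0) ^^^
    (if n.testBit 3 then 128 else 0) ^^^ (if n.testBit 4 then 38 else 0) ^^^ (if n.testBit 5 then 68 else 0)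

/-- The coordinates of the perpendicular part. -/
def prj (v : ℕ) : ℕ := ((List.range 64).find? fun n => pln.contains (emb n ^^^ v)).getD 0

theorem toA_ok : ((List.range 256).all fun a => K8.q a == (toA.map Prod.fst).contains a) = true := by decide +kernel

theorem toA_wd : (toA.all fun p => Wok K8 p.2 && wd K8 p.2 p.1 == 34) = true := by
  simp only [wok_eq]
  decide +kernel

theorem toB_ok : ((List.range 256).all fun a => (K8.q a && bq K8 34 a) == (toB.map Prod.fst).contains a) = true := by
  decide +kernel

theorem toB_wd : (toB.all fun p => Wok K8 p.2 && wd K8 p.2 34 == 34 && wd K8 p.2 p.1 == 70) = true := by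
  simp only [wok_eq]
  decide +kernel

theorem tab_nodup : (toA.map Prod.fst).Nodup ∧ (toA.map Prod.fst).length = 120 ∧ (toB.map Prod.fst).Nodup ∧
    (toB.map Prod.fst).length = 56 := by decide +kernel

theorem words_ok : (Wok K8 rot && Wok K8 rot2 && Wok K8 swp && Wok K8 flp) = true := by
  simp only [wok_eq]
  decide +kernel

theorem rot_ok : wd K8 rot 34 = 70 ∧ wd K8 rot 70 = 100 ∧ wd K8 rot2 34 = 34 ∧ wd K8 rot2 70 = 70 ∧
    ((List.range 256).all fun v => (bq K8 34 v || bq K8 70 v) || wd K8 rot v == v) = true := by decide +kernel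

theorem swp_ok : ((List.range 256).all fun v => wd K8 swp (wd K8 rot v) == wd K8 rot2 (wd K8 swp v) &&
    wd K8 swp (wd K8 rot2 v) == wd K8 rot (wd K8 swp v) && wd K8 rot (wd K8 rot2 v) == wd K8 rot2 (wd K8 rot v) &&
    wd K8 flp (wd K8 rot v) == wd K8 rot.reverse (wd K8 flp v) &&
    wd K8 flp (wd K8 rot2 v) == wd K8 rot2 (wd K8 flp v)) = true := by decide +kernel

theorem emb_ok : ((List.range 64).all fun n => decide (emb n < 256) && !bq K8 34 (emb n) && !bq K8 70 (emb n) &&
    (K8.q (emb n) == Suz.K6.q n) && prj (emb n) == n) = true := by decide +kernel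

theorem emb_xor_ok : ((List.range 64).all fun m => (List.range 64).all fun n =>
    emb (m ^^^ n) == emb m ^^^ emb n) = true := by decide +kernel

theorem perp_ok : ((List.range 256).all fun v =>
    (bq K8 34 v || bq K8 70 v) || (decide (prj v < 64) && emb (prj v) == v)) = true := by decide +kernel

end Cfsg.Agent.Invol.Co1.Three
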